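import Cfsg.Agent.Lib.Char.Convolution
import Cfsg.Agent.Lib.Char.GroupAlg
import Mathlib.LinearAlgebra.PID

/-!
# Characters on the group algebra
-/

set_option autoImplicit false
set_option linter.unusedSectionVars false

namespace Cfsg.Agent.Char.OddCorr

open Cfsg Module
open scoped ComplexConjugate

universe u

variable {G : Type u} [Group G] [Fintype G]

/-- The group algebra. -/
abbrev Alg (G : Type u) [Group G] := MonoidAlgebra ℂ G

/-- A group element in the group algebra. -/
noncomputable def el (g : G) : Alg G := MonoidAlgebra.of ℂ G g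

theorem el_mul (a b : G) : el (a * b) = el a * el b := map_mul (MonoidAlgebra.of ℂ G) a b

theorem el_one : el (1 : G) = 1 := map_one (MonoidAlgebra.of ℂ G)

theorem sum_el (a : Alg G) : a = ∑ g : G, a.coeff g • el g := by
  classical
  apply MonoidAlgebra.coeff_injective
  ext h
  simp [el, MonoidAlgebra.coeff_sum, MonoidAlgebra.of_apply, Finsupp.finset_sum_apply,
    Finsupp.single_apply]

/-- A function on `G` extended linearly to the group algebra. -/
noncomputable def tc (f : G → ℂ) : Alg G →ₗ[ℂ] ℂ where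
  toFun a := ∑ g : G, a.coeff g * f g
  map_add' a b := by simp [add_mul, Finset.sum_add_distrib]
  map_smul' c a := by simp [Finset.mul_sum, mul_assoc]

theorem tc_el (f : G → ℂ) (g : G) : tc f (el g) = f g := by
  classical
  simp [tc, el, MonoidAlgebra.of_apply, Finsupp.single_apply]

/-- Bilinear identities are checked on group elements. -/
theorem bilin_ext (F F' : Alg G →ₗ[ℂ] Alg G →ₗ[ℂ] ℂ)
    (h : ∀ x y : G, F (el x) (el y) = F' (el x) (el y)) (a b : Alg G) : F a b = F' a b := by
  rw [sum_el a, sum_el b]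
  simp only [map_sum, map_smul, LinearMap.sum_apply, LinearMap.smul_apply, h]

theorem tc_comm {f : G → ℂ} (hf : IsClassFunction G f) (a b : Alg G) :
    tc f (a * b) = tc f (b * a) := by
  refine bilin_ext ((LinearMap.mul ℂ (Alg G)).compr₂ (tc f))
    ((LinearMap.mul ℂ (Alg G)).flip.compr₂ (tc f)) (fun x y => ?_) a b
  show tc f (el x * el y) = tc f (el y * el x)
  rw [← el_mul, ← el_mul, tc_el, tc_el]
  have := hf (y * x) x
  rwa [show x * (y * x) * x⁻¹ = x * y by group] at this

/-- The representation of the group algebra. -/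
noncomputable def alg {V : Type*} [AddCommGroup V] [Module ℂ V] (ρ : Representation ℂ G V) :
    Alg G →ₐ[ℂ] Module.End ℂ V := MonoidAlgebra.lift ℂ (Module.End ℂ V) G ρ

theorem alg_el {V : Type*} [AddCommGroup V] [Module ℂ V] (ρ : Representation ℂ G V) (g : G) :
    alg ρ (el g) = ρ g := by simp [alg, el]

theorem tc_character {V : Type*} [AddCommGroup V] [Module ℂ V] [FiniteDimensional ℂ V]
    (ρ : Representation ℂ G V) (a : Alg G) :
    tc ρ.character a = LinearMap.trace ℂ V (alg ρ a) := by
  conv_rhs => rw [sum_el a]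
  simp [tc, map_sum, map_smul, alg_el, Representation.character, smul_eq_mul]

/-- Orthogonality on the group algebra. -/
theorem conv_orth (χ χ' : IrrCharacter G) (a b : Alg G) :
    ∑ g : G, tc (χ : G → ℂ) (el g * a) * tc (χ' : G → ℂ) (el g⁻¹ * b) =
      open scoped Classical in
      (if χ = χ' then (Nat.card G : ℂ) / (χ : G → ℂ) 1 else 0) * tc (χ : G → ℂ) (a * b) := by
  classical
  set k : ℂ := if χ = χ' then (Nat.card G : ℂ) / (χ : G → ℂ) 1 else 0 with hk
  let L := LinearMap.mul ℂ (Alg G)
  refine (Eq.trans ?_ (bilin_ext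
    (∑ g : G, (LinearMap.mul ℂ ℂ).compl₁₂ ((tc (χ : G → ℂ)).comp (L (el g)))
      ((tc (χ' : G → ℂ)).comp (L (el g⁻¹))))
    (k • L.compr₂ (tc (χ : G → ℂ))) (fun x y => ?_) a b)).trans ?_
  · simp [LinearMap.sum_apply, L]
  · simp only [LinearMap.sum_apply, LinearMap.compl₁₂_apply, LinearMap.comp_apply,
      LinearMap.mul_apply', LinearMap.smul_apply, LinearMap.compr₂_apply, L, ← el_mul, tc_el,
      smul_eq_mul]
    have hc := irr_convolution χ.2 χ'.2 (y * x)
    have h0 := irr_one_ne_zero χ'.2
    have hs : ∑ g : G, (χ : G → ℂ) (g * x) * (χ' : G → ℂ) (g⁻¹ * y) =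
        ∑ u : G, (χ : G → ℂ) u * (χ' : G → ℂ) (u⁻¹ * (y * x)) := by
      refine Fintype.sum_equiv (Equiv.mulRight x) _ _ fun g => ?_
      simp only [Equiv.coe_mulRight]
      rw [show (g * x)⁻¹ * (y * x) = x⁻¹ * (g⁻¹ * y) * x⁻¹⁻¹ by group,
        isClassFunction_character (irr_isCharacter χ'.2)]
    rw [hs]
    refine mul_left_cancel₀ h0 (hc.trans ?_)
    by_cases he : χ = χ'
    · subst he
      have hyx : (χ : G → ℂ) (x * y) = (χ : G → ℂ) (y * x) := by
        have := isClassFunction_character (irr_isCharacter χ.2) (y * x) x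
        rwa [show x * (y * x) * x⁻¹ = x * y by group] at this
      rw [hk, if_pos rfl, if_pos rfl, hyx]
      field_simp
    · rw [hk, if_neg he, if_neg (fun e => he (Subtype.ext e))]
      simp
  · by_cases he : χ = χ' <;> simp [L, hk, he]

/-- A central element acts as a scalar. -/
theorem tc_mul_central (χ : IrrCharacter G) {Z : Alg G} (hZ : ∀ g : G, el g * Z = Z * el g)
    (a : Alg G) :
    (χ : G → ℂ) 1 * tc (χ : G → ℂ) (a * Z) = tc (χ : G → ℂ) Z * tc (χ : G → ℂ) a := by
  obtain ⟨n, ρ, hρ, he⟩ := χ.2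
  rw [← he]
  haveI := hρ
  have hcomm : ∀ k v, alg ρ Z (ρ k v) = ρ k (alg ρ Z v) := fun k v => by
    rw [← alg_el ρ k, ← Module.End.mul_apply, ← map_mul, ← hZ, map_mul]
    rfl
  rw [tc_comm (isClassFunction_character (isCharacter_character ρ))]
  conv_lhs => rw [sum_el a]
  conv_rhs => rw [sum_el a]
  simp only [Finset.mul_sum, map_sum, map_smul, smul_eq_mul, mul_smul_comm, tc_el]
  refine Finset.sum_congr rfl fun g _ => ?_
  have := trace_mul_of_comm ρ (alg ρ Z) hcomm g
  rw [tc_character, tc_character, map_mul, alg_el]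
  linear_combination (a.coeff g) * this

/-- A commuting idempotent cuts out a character. -/
theorem isCharacter_of_idem {H : Type*} [Group H] (j : H →* G) (χ : IrrCharacter G) {P : Alg G}
    (hP : P * P = P) (hc : ∀ h : H, el (j h) * P = P * el (j h)) :
    IsCharacter H (fun h : H => tc (χ : G → ℂ) (el (j h) * P)) := by
  obtain ⟨n, ρ, hρ, he⟩ := χ.2
  rw [← he]
  set W := LinearMap.range (alg ρ P) with hW
  have hmap : ∀ h : H, ∀ v ∈ W, ρ (j h) v ∈ W := by
    rintro h v ⟨u, rfl⟩
    refine ⟨ρ (j h) u, ?_⟩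
    rw [← alg_el ρ (j h), ← Module.End.mul_apply, ← map_mul, ← hc h, map_mul]
    rfl
  let σ : Representation ℂ H W :=
    { toFun := fun h => (ρ (j h)).restrict (hmap h)
      map_one' := by ext v; simp
      map_mul' := fun a b => by ext v; simp }
  have : (fun h : H => tc ρ.character (el (j h) * P)) = σ.character := by
    funext h
    rw [tc_character, map_mul, alg_el]
    have hf : ∀ x, (ρ (j h) * alg ρ P) x ∈ W := fun x => hmap h _ (LinearMap.mem_range_self _ x)
    rw [← LinearMap.trace_restrict_eq_of_forall_mem W _ hf]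
    show LinearMap.trace ℂ W _ = LinearMap.trace ℂ W ((ρ (j h)).restrict (hmap h))
    congr 1
    ext ⟨v, u, rfl⟩ : 2
    simp only [LinearMap.restrict_apply, Module.End.mul_apply]
    rw [← Module.End.mul_apply (alg ρ P), ← map_mul, hP]
  rw [this]
  exact isCharacter_character σ

end Cfsg.Agent.Char.OddCorr
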