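import Cfsg.Agent.Lib.Char.OddCorr.Parity

/-!
# The correspondence over an invariant character
-/

set_option autoImplicit false
set_option linter.unusedSectionVars false
set_option linter.style.haveILetI false

namespace Cfsg.Agent.Char.OddCorr

open Cfsg Module
open scoped Classical ComplexConjugate

universe u

section Signed

variable {P : Type u} [Group P] [Fintype P]

theorem character_eq_zero {c : P → ℂ} (hc : IsCharacter P c) (h : c 1 = 0) : c = 0 := by
  obtain ⟨n, ρ, rfl⟩ := hc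
  rw [Representation.char_one, Module.finrank_fin_fun, Nat.cast_eq_zero] at h
  subst h
  funext g
  show LinearMap.trace ℂ (Fin 0 → ℂ) (ρ g) = 0
  rw [show ρ g = 0 from LinearMap.ext fun v => Subsingleton.elim _ _, map_zero]

/-- A difference of characters of norm one. -/
theorem exists_of_norm_one {a b : P → ℂ} (ha : IsCharacter P a) (hb : IsCharacter P b)
    (h1 : classInner (a - b) (a - b) = 1) :
    ∃ η : IrrCharacter P, (classInner (a - b) (η : P → ℂ) ≠ 0) ∧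
      (∀ ζ : IrrCharacter P, ζ ≠ η → classInner (a - b) (ζ : P → ℂ) = 0) ∧
      (∀ ζ : IrrCharacter P, ∀ n : ℕ, classInner (a + b) (ζ : P → ℂ) = n → (Odd n ↔ ζ = η)) := by
  obtain ⟨ma, hma⟩ := exists_decomposition ha
  obtain ⟨mb, hmb⟩ := exists_decomposition hb
  let z : IrrCharacter P → ℤ := fun ζ => (ma ζ : ℤ) - mb ζ
  have hz : ∀ ζ : IrrCharacter P, classInner (a - b) (ζ : P → ℂ) = (z ζ : ℂ) := fun ζ => by
    rw [classInner_sub_left, decomposition_coeff ma hma, decomposition_coeff mb hmb]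
    simp [z]
  have hab : a - b = ∑ ζ : IrrCharacter P, (z ζ : ℂ) • (ζ : P → ℂ) := by
    rw [hma, hmb, ← Finset.sum_sub_distrib]
    refine Finset.sum_congr rfl fun ζ _ => ?_
    rw [← Nat.cast_smul_eq_nsmul ℂ, ← Nat.cast_smul_eq_nsmul ℂ, ← sub_smul]
    simp [z]
  have hsq : ∑ ζ, z ζ * z ζ = 1 := by
    have : classInner (a - b) (a - b) = ∑ ζ, (z ζ : ℂ) * z ζ := by
      conv_lhs => arg 2; rw [hab]
      rw [classInner_sum_right]
      refine Finset.sum_congr rfl fun ζ _ => ?_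
      rw [classInner_smul_right, hz]
      simp
    rw [h1] at this
    exact_mod_cast this.symm
  obtain ⟨η, -, hη⟩ := Finset.exists_ne_zero_of_sum_ne_zero (hsq ▸ one_ne_zero :
    (∑ ζ, z ζ * z ζ) ≠ 0)
  have hrest : ∀ ζ, ζ ≠ η → z ζ = 0 := by
    intro ζ hne
    have hle : z η * z η + z ζ * z ζ ≤ 1 := by
      rw [← hsq, ← Finset.sum_pair (f := fun x => z x * z x) hne.symm]
      exact Finset.sum_le_sum_of_subset_of_nonneg (Finset.subset_univ _)
        (fun x _ _ => mul_self_nonneg _)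
    have : 1 ≤ z η * z η := lt_of_le_of_ne (mul_self_nonneg _) (Ne.symm hη)
    exact mul_self_eq_zero.1 (le_antisymm (by omega) (mul_self_nonneg _))
  have hη1 : Odd (z η) := by
    rw [Finset.sum_eq_single η (fun ζ _ hne => by rw [hrest ζ hne, zero_mul]) (by simp)] at hsq
    rcases Int.eq_one_or_neg_one_of_mul_eq_one hsq with h | h <;> simp [h]
  refine ⟨η, ?_, fun ζ hne => by rw [hz, hrest ζ hne, Int.cast_zero], fun ζ n hn => ?_⟩
  · rw [hz]
    exact_mod_cast fun h => hη (by rw [h, zero_mul])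
  · have hn' : n = ma ζ + mb ζ := by
      rw [classInner_add_left, decomposition_coeff ma hma, decomposition_coeff mb hmb] at hn
      exact_mod_cast hn.symm
    have hpar : Odd n ↔ Odd (z ζ) := by
      rw [Nat.odd_iff, Int.odd_iff, hn']
      show _ ↔ ((ma ζ : ℤ) - mb ζ) % 2 = 1
      omega
    rw [hpar]
    refine ⟨fun ho => ?_, fun he => he ▸ hη1⟩
    by_contra hne
    rw [hrest ζ hne] at ho
    simp at ho

end Signed

variable {G : Type u} [Group G] [Fintype G] {L K C : Subgroup G} [L.Normal] [Fintype L]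
  {S : Type*} [Group S] [Fintype S] {φ : IrrCharacter L} {σ : S →* MulAut G}

/-- The corner function of a function on `L ⊔ C`. -/
noncomputable def cf (φ : IrrCharacter L) (ψ : ↥(L ⊔ C) → ℂ) (h : Ps L C φ) : ℂ :=
  ∑ l : L, idem (φ : L → ℂ) l *
    ψ ⟨(h : G) * l, mul_mem h.2.1 (Subgroup.mem_sup_left l.2)⟩

/-- The corner function of a character of `G`. -/
noncomputable def En (φ : IrrCharacter L) (χ : IrrCharacter G) (h : Ps L C φ) : ℂ :=
  tc (χ : G → ℂ) (el (h : G) * eL L φ)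

theorem En_eq (χ : IrrCharacter G) (h : Ps L C φ) :
    En φ χ h = cf φ (fun x => (χ : G → ℂ) x) h := by
  simp [En, cf, eL, emb, Finset.mul_sum, mul_smul_comm, map_sum, map_smul, ← el_mul, tc_el]

theorem tc_eL (χ : IrrCharacter G) :
    tc (χ : G → ℂ) (eL L φ) =
      (φ : L → ℂ) 1 * classInner (fun l : L => (χ : G → ℂ) l) (φ : L → ℂ) := by
  simp only [eL, emb, LinearMap.coe_mk, AddHom.coe_mk, map_sum, map_smul, tc_el, smul_eq_mul,
    classInner, idem, Finset.mul_sum]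
  exact Finset.sum_congr rfl fun l _ => by ring

/-- A character restricted to `L ⊔ C`, with its decomposition. -/
theorem En_expand [Fintype ↥(L ⊔ C)] (χ : IrrCharacter G) :
    En φ χ = ∑ ψ : IrrCharacter ↥(L ⊔ C),
      classInner (fun x : ↥(L ⊔ C) => (χ : G → ℂ) x) (ψ : ↥(L ⊔ C) → ℂ) • cf φ (ψ : ↥(L ⊔ C) → ℂ) := by
  funext h
  have hres := classFun_expansion (isClassFunction_character
    (isCharacter_comp (L ⊔ C).subtype (irr_isCharacter χ.2)))
  have hres' : ∀ x : ↥(L ⊔ C), (χ : G → ℂ) x = ∑ ψ : IrrCharacter ↥(L ⊔ C),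
      classInner (fun x : ↥(L ⊔ C) => (χ : G → ℂ) x) (ψ : ↥(L ⊔ C) → ℂ) * (ψ : ↥(L ⊔ C) → ℂ) x := by
    intro x
    have := congrFun hres x
    simpa [Finset.sum_apply, Function.comp_def] using this
  rw [En_eq]
  simp only [cf, Finset.sum_apply, Pi.smul_apply, smul_eq_mul, Finset.mul_sum]
  rw [Finset.sum_comm]
  refine Finset.sum_congr rfl fun l _ => ?_
  rw [show (χ : G → ℂ) ((h : G) * l) = _ from
    hres' ⟨(h : G) * l, mul_mem h.2.1 (Subgroup.mem_sup_left l.2)⟩, Finset.mul_sum]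
  exact Finset.sum_congr rfl fun ψ _ => by ring

/-- The corner functions of `L ⊔ C` are orthonormal. -/
theorem cf_facts [Fintype ↥(L ⊔ C)] :
    (∀ ψ : IrrCharacter ↥(L ⊔ C), IsCharacter (Ps L C φ) (cf φ (ψ : ↥(L ⊔ C) → ℂ))) ∧
    (∀ ψ : IrrCharacter ↥(L ⊔ C), cf φ (ψ : ↥(L ⊔ C) → ℂ) 1 = (φ : L → ℂ) 1 *
      classInner (fun l : L => (ψ : ↥(L ⊔ C) → ℂ) ⟨l, Subgroup.mem_sup_left l.2⟩) (φ : L → ℂ)) ∧
    ∀ ψ ψ' : IrrCharacter ↥(L ⊔ C),
      classInner (cf φ (ψ : ↥(L ⊔ C) → ℂ)) (cf φ (ψ' : ↥(L ⊔ C) → ℂ)) =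
        if ψ = ψ' ∧ cf φ (ψ : ↥(L ⊔ C) → ℂ) ≠ 0 then 1 else 0 := by
  let L' : Subgroup ↥(L ⊔ C) := L.subgroupOf (L ⊔ C)
  haveI : Fintype L' := Fintype.ofFinite _
  let eq : L' ≃* L := Subgroup.subgroupOfEquivOfLe le_sup_left
  let φ' : IrrCharacter L' := ⟨fun x => (φ : L → ℂ) (eq x), isIrrCharacter_comp_equiv eq φ.2⟩
  have hidem : ∀ x : L', idem (φ' : L' → ℂ) x = idem (φ : L → ℂ) (eq x) := fun x => by
    simp only [idem, φ', map_one, Nat.card_congr eq.toEquiv]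
  have hval : ∀ (ψ : IrrCharacter ↥(L ⊔ C)) (h : Ps L C φ),
      tc (ψ : ↥(L ⊔ C) → ℂ) (el (Subgroup.inclusion inf_le_left h) * eL L' φ') =
        cf φ (ψ : ↥(L ⊔ C) → ℂ) h := fun ψ h => by
    simp only [eL, emb, LinearMap.coe_mk, AddHom.coe_mk, Finset.mul_sum, mul_smul_comm, map_sum,
      map_smul, ← el_mul, tc_el, smul_eq_mul, hidem, cf]
    exact Fintype.sum_equiv eq.toEquiv _ _ fun x => rfl
  have hstab : ∀ x : ↥(L ⊔ C), x ∈ stab L' φ' ↔ (x : G) ∈ stab L φ := fun x => by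
    rw [mem_stab, mem_stab]
    constructor
    · intro h l
      have := h (eq.symm l)
      refine Eq.trans (congrArg (φ : L → ℂ) (Subtype.ext ?_)) (this.trans (congrArg (φ : L → ℂ) (eq.apply_symm_apply l)))
      first | rfl | simp [eq, Subgroup.subgroupOfEquivOfLe, MulAut.conjNormal_apply]
    · intro h l
      refine Eq.trans (congrArg (φ : L → ℂ) (Subtype.ext ?_)) (h (eq l))
      first | rfl | simp [eq, Subgroup.subgroupOfEquivOfLe, MulAut.conjNormal_apply]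
  have hchar : ∀ ψ : IrrCharacter ↥(L ⊔ C), IsCharacter (Ps L C φ) (cf φ (ψ : ↥(L ⊔ C) → ℂ)) := by
    intro ψ
    rw [show cf φ (ψ : ↥(L ⊔ C) → ℂ) = fun h => tc (ψ : ↥(L ⊔ C) → ℂ)
      (el (Subgroup.inclusion inf_le_left h) * eL L' φ') from funext fun h => (hval ψ h).symm]
    exact isCharacter_of_idem (Subgroup.inclusion inf_le_left) ψ (eL_mul_self L' φ')
      fun h => el_eL_comm L' φ' ((hstab _).2 h.2.2)
  have hone : ∀ ψ : IrrCharacter ↥(L ⊔ C),
      cf φ (ψ : ↥(L ⊔ C) → ℂ) 1 = tc (ψ : ↥(L ⊔ C) → ℂ) (eL L' φ') := fun ψ => by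
    rw [← hval, map_one, el_one, one_mul]
  refine ⟨hchar, fun ψ => ?_, fun ψ ψ' => ?_⟩
  · rw [hone, tc_eL]
    congr 1
    simp only [classInner, Nat.card_congr eq.toEquiv]
    congr 1
    exact Fintype.sum_equiv eq.toEquiv _ _ fun x => rfl
  · set e := eL L' φ'
    have hsum : ∑ h : Ps L C φ, cf φ (ψ : ↥(L ⊔ C) → ℂ) h * cf φ (ψ' : ↥(L ⊔ C) → ℂ) h⁻¹ =
        (if ψ = ψ' then (Nat.card ↥(L ⊔ C) : ℂ) / (ψ : ↥(L ⊔ C) → ℂ) 1 else 0) *
          tc (ψ : ↥(L ⊔ C) → ℂ) e := by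
      have := conv_orth ψ ψ' e e
      rw [eL_mul_self] at this
      rw [← this]
      refine Fintype.sum_of_injective (Subgroup.inclusion (inf_le_left : Ps L C φ ≤ L ⊔ C))
        (Subgroup.inclusion_injective _) _ _ (fun x hx => ?_) (fun h => ?_)
      · have hnot : x ∉ stab L' φ' := fun hm => hx ⟨⟨(x : G), x.2, (hstab x).1 hm⟩, rfl⟩
        rw [show tc (ψ : ↥(L ⊔ C) → ℂ) (el x * e) = 0 by
          rw [show el x * e = el x * e * e by rw [mul_assoc, eL_mul_self],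
            tc_comm (isClassFunction_character (irr_isCharacter ψ.2)), ← mul_assoc,
            eL_el_eL L' φ' hnot, map_zero], zero_mul]
      · rw [← hval, ← hval, map_inv]
    have hconj : ∀ h : Ps L C φ, conj (cf φ (ψ' : ↥(L ⊔ C) → ℂ) h) = cf φ (ψ' : ↥(L ⊔ C) → ℂ) h⁻¹ :=
      fun h => (char_inv (hchar ψ') h).symm
    rw [classInner]
    simp only [hconj, hsum]
    by_cases he : ψ = ψ'
    · subst he
      rw [if_pos rfl]
      by_cases hz : cf φ (ψ : ↥(L ⊔ C) → ℂ) = 0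
      · rw [if_neg (fun h => h.2 hz), ← hone, hz]
        simp
      · rw [if_pos ⟨rfl, hz⟩]
        have hne : tc (ψ : ↥(L ⊔ C) → ℂ) e ≠ 0 := fun h0 =>
          hz (character_eq_zero (hchar ψ) ((hone ψ).trans h0))
        have hc := card_stab (L := L') (φ := φ') ψ hne
        have hPs : Fintype.card (stab L' φ') = Nat.card (Ps L C φ) := by
          rw [Nat.card_eq_fintype_card]
          exact Fintype.card_congr
            { toFun := fun x => ⟨((x : ↥(L ⊔ C)) : G), (x : ↥(L ⊔ C)).2, (hstab _).1 x.2⟩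
              invFun := fun h => ⟨⟨(h : G), h.2.1⟩, (hstab _).2 h.2.2⟩
              left_inv := fun x => rfl
              right_inv := fun h => rfl }
        rw [hPs] at hc
        rw [Nat.card_eq_fintype_card (α := ↥(L ⊔ C))]
        have h1 := irr_one_ne_zero ψ.2
        have h2 : (Nat.card (Ps L C φ) : ℂ) ≠ 0 := Nat.cast_ne_zero.2 Nat.card_pos.ne'
        field_simp
        linear_combination -hc
    · rw [if_neg he, if_neg (fun h => he h.1)]
      simp

/-- The normalised parity character. -/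
noncomputable def Dn (J : Alg G) (M : ℕ) (χ : IrrCharacter G) (h : Ps L C φ) : ℂ :=
  (((Real.sqrt M)⁻¹ : ℝ) : ℂ) * tc (χ : G → ℂ) (el (h : G) * J)

variable {J : Alg G} {N M : ℕ}

theorem signed (hJ : IsParity L K C φ σ J N M) (χ : IrrCharacter G) :
    ∃ a b : Ps L C φ → ℂ, IsCharacter _ a ∧ IsCharacter _ b ∧ Dn J M χ = a - b ∧
      ((Dn J M χ : Ps L C φ → ℂ) = 0 ∧ tc (χ : G → ℂ) (J * J) = 0 ∨
        classInner (Dn J M χ : Ps L C φ → ℂ) (Dn J M χ) = 1 ∧ En φ χ = a + b) := by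
  set ν : ℂ := (((Real.sqrt M)⁻¹ : ℝ) : ℂ) with hν
  have hνM : ν * ν * (M : ℂ) = 1 := by
    rw [hν, ← Complex.ofReal_natCast, ← Complex.ofReal_mul, ← Complex.ofReal_mul,
      ← Complex.ofReal_one]
    congr 1
    have h0 : (0 : ℝ) < M := by exact_mod_cast Nat.pos_of_ne_zero hJ.M_ne
    rw [← mul_inv, Real.mul_self_sqrt h0.le, inv_mul_cancel₀ h0.ne']
  set e := eL L φ
  set Jn := ν • J with hJn
  set q := Jn * Jn with hq
  have h3 : Jn * q = Jn := by
    simp only [hq, hJn, smul_mul_assoc, mul_smul_comm, smul_smul, hJ.cube]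
    rw [show ν * ν * (ν * (M : ℂ)) = ν * (ν * ν * M) by ring, hνM, mul_one]
  have h3' : q * Jn = Jn := by rw [hq, mul_assoc]; exact h3
  have hqq : q * q = q := by
    conv_lhs => arg 2; rw [hq]
    rw [← mul_assoc, h3', ← hq]
  have heJ : e * Jn = Jn := by rw [hJn, mul_smul_comm, hJ.left]
  have hJe : Jn * e = Jn := by rw [hJn, smul_mul_assoc, hJ.right]
  have heq : e * q = q := by rw [hq, ← mul_assoc, heJ]
  have hqe : q * e = q := by rw [hq, mul_assoc, hJe]
  have hcJ : ∀ h : Ps L C φ, el (h : G) * Jn = Jn * el (h : G) := fun h => by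
    rw [hJn, mul_smul_comm, hJ.comm _ h.2, smul_mul_assoc]
  have hcq : ∀ h : Ps L C φ, el (h : G) * q = q * el (h : G) := fun h => by
    rw [hq, ← mul_assoc, hcJ, mul_assoc, hcJ, mul_assoc]
  let j := (Ps L C φ).subtype
  have hP : ∀ ε : ℂ, ε * ε = 1 → IsCharacter (Ps L C φ)
      (fun h => tc (χ : G → ℂ) (el (h : G) * ((1 / 2 : ℂ) • (q + ε • Jn)))) := fun ε hε =>
    isCharacter_of_idem j χ (by
      simp only [smul_mul_assoc, mul_smul_comm, add_mul, mul_add, smul_smul, hqq, h3, h3', ← hq,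
        smul_add]
      match_scalars <;> first | ring1 | linear_combination (1 / 4 : ℂ) * hε) fun h => by
      show el (h : G) * _ = _ * el (h : G)
      simp only [mul_smul_comm, smul_mul_assoc, mul_add, add_mul, hcq, hcJ]
  let a : Ps L C φ → ℂ := fun h => tc (χ : G → ℂ) (el (h : G) * ((1 / 2 : ℂ) • (q + (1 : ℂ) • Jn)))
  let b : Ps L C φ → ℂ := fun h => tc (χ : G → ℂ) (el (h : G) * ((1 / 2 : ℂ) • (q + (-1 : ℂ) • Jn)))
  let c : Ps L C φ → ℂ := fun h => tc (χ : G → ℂ) (el (h : G) * (e - q))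
  have ha : IsCharacter _ a := hP 1 (by norm_num)
  have hb : IsCharacter _ b := hP (-1) (by norm_num)
  have hc : IsCharacter _ c := isCharacter_of_idem j χ (by
      rw [sub_mul, mul_sub, mul_sub, eL_mul_self, heq, hqe, hqq, sub_self, sub_zero]) fun h => by
    show el (h : G) * _ = _ * el (h : G)
    rw [mul_sub, sub_mul, hcq, el_eL_comm L φ h.2.2]
  have hDab : (Dn J M χ : Ps L C φ → ℂ) = a - b := funext fun h => by
    simp only [Dn, Pi.sub_apply, a, b, hJn, ← hν, mul_smul_comm, mul_add, map_smul, map_add,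
      smul_eq_mul]
    ring
  have hEabc : En φ χ = a + b + c := funext fun h => by
    simp only [En, Pi.add_apply, a, b, c, mul_smul_comm, mul_add, mul_sub, map_smul, map_add,
      map_sub, smul_eq_mul]
    ring
  refine ⟨a, b, ha, hb, hDab, ?_⟩
  obtain ⟨A, hA⟩ := charOne_eq_natCast ha
  obtain ⟨B, hB⟩ := charOne_eq_natCast hb
  obtain ⟨Cd, hCd⟩ := charOne_eq_natCast hc
  have hq1 : tc (χ : G → ℂ) q = (A : ℂ) + B := by
    rw [← hA, ← hB]
    simp only [a, b, OneMemClass.coe_one, el_one, one_mul, map_smul, map_add, smul_eq_mul]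
    ring
  have he1 : tc (χ : G → ℂ) e = (A : ℂ) + B + Cd := by
    rw [← hq1, ← hCd]
    simp only [c, OneMemClass.coe_one, el_one, one_mul, map_sub]
    ring
  by_cases h0 : A + B = 0
  · left
    have hA0 : A = 0 := by omega
    have hB0 : B = 0 := by omega
    refine ⟨by rw [hDab, character_eq_zero ha (by rw [hA, hA0, Nat.cast_zero]),
      character_eq_zero hb (by rw [hB, hB0, Nat.cast_zero]), sub_zero], ?_⟩
    have : tc (χ : G → ℂ) q = 0 := by rw [hq1, hA0, hB0]; simp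
    simp only [hq, hJn, smul_mul_assoc, mul_smul_comm, map_smul, smul_eq_mul] at this
    have hν0 : ν ≠ 0 := fun h => by rw [h] at hνM; simp at hνM
    simpa [hν0] using this
  · right
    have hne : tc (χ : G → ℂ) e ≠ 0 := by
      rw [he1]; exact_mod_cast (show A + B + Cd ≠ 0 by omega)
    have hconj : ∀ h : Ps L C φ, conj (Dn J M χ h) = Dn J M χ h⁻¹ := fun h => by
      rw [congrFun hDab h, congrFun hDab h⁻¹, Pi.sub_apply, Pi.sub_apply, map_sub,
        char_inv ha, char_inv hb]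
    have hnorm : classInner (Dn J M χ : Ps L C φ → ℂ) (Dn J M χ) * tc (χ : G → ℂ) e =
        tc (χ : G → ℂ) q := by
      have htr := hJ.trace χ χ
      rw [if_pos rfl] at htr
      have hcard := card_stab χ hne
      rw [← hJ.card, Nat.cast_mul, ← Nat.card_eq_fintype_card (α := G)] at hcard
      rw [classInner]
      simp only [hconj]
      simp only [Dn, InvMemClass.coe_inv, ← hν, hq, hJn, smul_mul_assoc, mul_smul_comm,
        map_smul, smul_eq_mul]
      rw [Finset.sum_congr rfl fun (h : Ps L C φ) _ => (show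
        ν * tc (χ : G → ℂ) (el (h : G) * J) * (ν * tc (χ : G → ℂ) (el (h : G)⁻¹ * J)) =
        ν * ν * (tc (χ : G → ℂ) (el (h : G) * J) * tc (χ : G → ℂ) (el (h : G)⁻¹ * J)) by ring),
        ← Finset.mul_sum, Nat.card_eq_fintype_card (α := Ps L C φ)]
      have h1 := irr_one_ne_zero χ.2
      have h2 : (Fintype.card (Ps L C φ) : ℂ) ≠ 0 := Nat.cast_ne_zero.2 Fintype.card_ne_zero
      have h4 : (N : ℂ) ≠ 0 := Nat.cast_ne_zero.2 hJ.N_ne
      generalize (∑ h : Ps L C φ,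
        tc (χ : G → ℂ) (el (h : G) * J) * tc (χ : G → ℂ) (el (h : G)⁻¹ * J)) = X at htr ⊢
      field_simp at htr ⊢
      refine mul_left_cancel₀ (mul_ne_zero h1 h4) ?_
      linear_combination ν ^ 2 * tc (χ : G → ℂ) e * htr - ν ^ 2 * tc (χ : G → ℂ) (J * J) * hcard
    obtain ⟨maa, hmaa⟩ := classInner_natCast ha ha
    obtain ⟨mab, hmab⟩ := classInner_natCast ha hb
    obtain ⟨mba, hmba⟩ := classInner_natCast hb ha
    obtain ⟨mbb, hmbb⟩ := classInner_natCast hb hb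
    have hint : classInner (Dn J M χ : Ps L C φ → ℂ) (Dn J M χ) =
        (((maa : ℤ) - mab - mba + mbb : ℤ) : ℂ) := by
      rw [hDab, classInner_sub_left, classInner_sub_right, classInner_sub_right, hmaa, hmab, hmba,
        hmbb]
      push_cast
      ring
    set k : ℤ := (maa : ℤ) - mab - mba + mbb
    rw [hint, he1, hq1] at hnorm
    have hk : k * ((A : ℤ) + B + Cd) = A + B := by exact_mod_cast hnorm
    have hk1 : k = 1 := by
      have hpos : (1 : ℤ) ≤ (A : ℤ) + B := by omega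
      rcases lt_trichotomy k 1 with hlt | heq | hgt
      · nlinarith [Int.natCast_nonneg Cd, (show k ≤ 0 by omega)]
      · exact heq
      · nlinarith [Int.natCast_nonneg Cd, (show 2 ≤ k by omega)]
    have hC0 : Cd = 0 := by rw [hk1] at hk; omega
    refine ⟨by rw [hint, hk1, Int.cast_one], ?_⟩
    rw [hEabc, character_eq_zero hc (by rw [hCd, hC0, Nat.cast_zero]), add_zero]

/-- Orthogonality of the parity characters. -/
theorem Dn_orth (hJ : IsParity L K C φ σ J N M) (χ χ' : IrrCharacter G) (hne : χ ≠ χ') :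
    classInner (Dn J M χ : Ps L C φ → ℂ) (Dn J M χ') = 0 := by
  obtain ⟨a, b, ha, hb, hab, -⟩ := signed hJ χ'
  have hconj : ∀ h : Ps L C φ, conj (Dn J M χ' h) = Dn J M χ' h⁻¹ := fun h => by
    rw [congrFun hab h, congrFun hab h⁻¹, Pi.sub_apply, Pi.sub_apply, map_sub, char_inv ha,
      char_inv hb]
  have htr := hJ.trace χ χ'
  rw [if_neg hne, zero_mul, mul_eq_zero] at htr
  have h0 := htr.resolve_left (Nat.cast_ne_zero.2 hJ.N_ne)
  rw [classInner]
  simp only [hconj]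
  simp only [Dn, InvMemClass.coe_inv]
  rw [Finset.sum_congr rfl fun (h : Ps L C φ) _ => (mul_mul_mul_comm _ _ _ _), ← Finset.mul_sum,
    h0, mul_zero, mul_zero]

section Main

variable [Fintype ↥(L ⊔ C)]

/-- The multiplicity of `ψ` in the restriction of `χ`. -/
noncomputable abbrev mult (χ : IrrCharacter G) (ψ : IrrCharacter ↥(L ⊔ C)) : ℂ :=
  classInner (fun x : ↥(L ⊔ C) => (χ : G → ℂ) x) (ψ : ↥(L ⊔ C) → ℂ)

/-- Lying over `φ`. -/
def OverH (φ : IrrCharacter L) (ψ : IrrCharacter ↥(L ⊔ C)) : Prop :=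
  classInner (fun l : L => (ψ : ↥(L ⊔ C) → ℂ) ⟨l, Subgroup.mem_sup_left l.2⟩) (φ : L → ℂ) ≠ 0

theorem cf_ne_zero_iff (ψ : IrrCharacter ↥(L ⊔ C)) :
    cf φ (ψ : ↥(L ⊔ C) → ℂ) ≠ 0 ↔ OverH φ ψ := by
  obtain ⟨hc, h1, -⟩ := cf_facts (L := L) (C := C) (φ := φ)
  rw [OverH]
  refine not_congr ⟨fun h => ?_, fun h => character_eq_zero (hc ψ) (by rw [h1, h, mul_zero])⟩
  have := h1 ψ
  rw [h] at this
  exact (mul_eq_zero.1 this.symm).resolve_left (irr_one_ne_zero φ.2)

theorem En_inner (χ : IrrCharacter G) {ψ : IrrCharacter ↥(L ⊔ C)} (hψ : OverH φ ψ) :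
    classInner (En φ χ : Ps L C φ → ℂ) (cf φ (ψ : ↥(L ⊔ C) → ℂ)) = mult χ ψ := by
  obtain ⟨-, -, horth⟩ := cf_facts (L := L) (C := C) (φ := φ)
  rw [En_expand, classInner_sum_left, Finset.sum_eq_single ψ]
  · rw [classInner_smul_left, horth, if_pos ⟨rfl, (cf_ne_zero_iff ψ).2 hψ⟩, mul_one]
  · intro ψ' _ hne
    rw [classInner_smul_left, horth, if_neg (fun h => hne h.1), mul_zero]
  · simp

/-- The constituent of odd multiplicity. -/
theorem exists_odd (hJ : IsParity L K C φ σ J N M) (χ : IrrCharacter G)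
    (hne : (Dn J M χ : Ps L C φ → ℂ) ≠ 0) :
    ∃ ψ : IrrCharacter ↥(L ⊔ C), OverH φ ψ ∧
      classInner (Dn J M χ : Ps L C φ → ℂ) (cf φ (ψ : ↥(L ⊔ C) → ℂ)) ≠ 0 ∧
      (∀ ψ', OverH φ ψ' → ψ' ≠ ψ →
        classInner (Dn J M χ : Ps L C φ → ℂ) (cf φ (ψ' : ↥(L ⊔ C) → ℂ)) = 0) ∧
      (∀ ψ', OverH φ ψ' → ∀ n : ℕ, mult χ ψ' = n → (Odd n ↔ ψ' = ψ)) := by
  obtain ⟨a, b, ha, hb, hab, h⟩ := signed hJ χ
  obtain ⟨h1, hE⟩ := h.resolve_left (fun h => hne h.1)
  rw [hab] at h1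
  obtain ⟨η, hη, hother, hodd⟩ := exists_of_norm_one ha hb h1
  obtain ⟨hc, -, horth⟩ := cf_facts (L := L) (C := C) (φ := φ)
  let ηψ : ∀ ψ, OverH φ ψ → IrrCharacter (Ps L C φ) := fun ψ hψ =>
    ⟨cf φ (ψ : ↥(L ⊔ C) → ℂ), isIrr_of_norm_one (hc ψ)
      (by rw [horth, if_pos ⟨rfl, (cf_ne_zero_iff ψ).2 hψ⟩])⟩
  obtain ⟨n, hn⟩ := classInner_natCast (isCharacter_add ha hb) (irr_isCharacter η.2)
  have hnodd : Odd n := (hodd η n hn).2 rfl
  obtain ⟨ψ, hψ, hψη⟩ : ∃ ψ, ∃ hψ : OverH φ ψ, ηψ ψ hψ = η := by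
    by_contra hall
    push Not at hall
    apply Nat.not_even_iff_odd.2 hnodd
    have : classInner (En φ χ : Ps L C φ → ℂ) (η : Ps L C φ → ℂ) = 0 := by
      rw [En_expand, classInner_sum_left]
      refine Finset.sum_eq_zero fun ψ _ => ?_
      rw [classInner_smul_left]
      by_cases hψ : OverH φ ψ
      · rw [show cf φ (ψ : ↥(L ⊔ C) → ℂ) = (ηψ ψ hψ : Ps L C φ → ℂ) from rfl, irrC_orth,
          if_neg (hall ψ hψ), mul_zero]
      · rw [not_not.1 (mt (cf_ne_zero_iff ψ).1 hψ), classInner_zero_left, mul_zero]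
    rw [hE, hn] at this
    rw [Nat.cast_eq_zero.1 this]
    exact Even.zero
  have hinj : ∀ ψ' (hψ' : OverH φ ψ'), ηψ ψ' hψ' = η → ψ' = ψ := fun ψ' hψ' he => by
    have h2 := horth ψ' ψ
    rw [show cf φ (ψ' : ↥(L ⊔ C) → ℂ) = (η : Ps L C φ → ℂ) from congrArg Subtype.val he,
      show cf φ (ψ : ↥(L ⊔ C) → ℂ) = (η : Ps L C φ → ℂ) from congrArg Subtype.val hψη,
      irr_self η.2] at h2
    by_contra hne'
    rw [if_neg (fun h => hne' h.1)] at h2
    exact one_ne_zero h2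
  refine ⟨ψ, hψ, ?_, fun ψ' hψ' hne' => ?_, fun ψ' hψ' m hm => ?_⟩
  · rw [show cf φ (ψ : ↥(L ⊔ C) → ℂ) = (η : Ps L C φ → ℂ) from congrArg Subtype.val hψη, hab]
    exact hη
  · rw [hab]
    exact hother (ηψ ψ' hψ') fun he => hne' (hinj ψ' hψ' he)
  · rw [← En_inner χ hψ', hE] at hm
    rw [hodd (ηψ ψ' hψ') m hm]
    refine ⟨hinj ψ' hψ', fun he => ?_⟩
    subst he
    exact hψη

/-- Moving the parity data by `S`. -/
theorem moved (hd : Ctx L K C φ σ) (hJ : IsParity L K C φ σ J N M) (s : S) (χ χ' : IrrCharacter G)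
    (hχ : ∀ g, (χ' : G → ℂ) g = (χ : G → ℂ) (σ s g)) (ψ ψ' : IrrCharacter ↥(L ⊔ C))
    (hψ : ∀ x y : ↥(L ⊔ C), (y : G) = σ s x → (ψ' : ↥(L ⊔ C) → ℂ) x = (ψ : ↥(L ⊔ C) → ℂ) y) :
    classInner (Dn J M χ' : Ps L C φ → ℂ) (cf φ (ψ' : ↥(L ⊔ C) → ℂ)) =
      classInner (Dn J M χ : Ps L C φ → ℂ) (cf φ (ψ : ↥(L ⊔ C) → ℂ)) := by
  have hmem : ∀ h : Ps L C φ, σ s (h : G) ∈ Ps L C φ := fun h => ⟨by
    obtain ⟨l, hl, c, hc, hlc⟩ := Subgroup.mem_sup_of_normal_left.1 h.2.1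
    rw [← hlc, map_mul, hd.fixC s c hc]
    exact mul_mem (Subgroup.mem_sup_left (hd.mapL s l hl)) (Subgroup.mem_sup_right hc),
    hd.map_stab s h.2.2⟩
  have hbij := Finite.injective_iff_bijective.1 (fun (x y : Ps L C φ)
    (he : (⟨σ s x, hmem x⟩ : Ps L C φ) = ⟨σ s y, hmem y⟩) =>
      Subtype.ext ((σ s).injective (congrArg Subtype.val he)))
  simp only [classInner]
  congr 1
  refine Fintype.sum_equiv (Equiv.ofBijective _ hbij) _ _ fun h => ?_
  have h1 : Dn J M χ' h = Dn J M χ ⟨σ s h, hmem h⟩ := by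
    simp only [Dn]
    rw [show (χ' : G → ℂ) = fun g => (χ : G → ℂ) (σ s g) from funext hχ, ← tc_th, map_mul, th_el,
      hJ.move]
  have hmapL := hd.mapL s
  have hbijL := Finite.injective_iff_bijective.1 (fun (x y : L)
    (he : (⟨σ s x, hmapL x x.2⟩ : L) = ⟨σ s y, hmapL y y.2⟩) =>
      Subtype.ext ((σ s).injective (congrArg Subtype.val he)))
  have h2 : cf φ (ψ' : ↥(L ⊔ C) → ℂ) h = cf φ (ψ : ↥(L ⊔ C) → ℂ) ⟨σ s h, hmem h⟩ := by
    simp only [cf]
    refine Fintype.sum_equiv (Equiv.ofBijective _ hbijL) _ _ fun l => ?_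
    simp only [Equiv.ofBijective_apply, idem]
    rw [hd.inv s l (hmapL _ l.2), hψ _ ⟨σ s h * σ s l, mul_mem (hmem h).1
      (Subgroup.mem_sup_left (hmapL _ l.2))⟩ (map_mul (σ s) _ _).symm]
  show Dn J M χ' h * conj (cf φ (ψ' : ↥(L ⊔ C) → ℂ) h) = _
  rw [h1, h2]
  rfl

/-- Some irreducible character has a given constituent with nonzero parity. -/
theorem exists_over (hJ : IsParity L K C φ σ J N M) {ψ : IrrCharacter ↥(L ⊔ C)}
    (hψ : OverH φ ψ) : ∃ χ : IrrCharacter G,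
      classInner (Dn J M χ : Ps L C φ → ℂ) (cf φ (ψ : ↥(L ⊔ C) → ℂ)) ≠ 0 := by
  by_contra hall
  push Not at hall
  have hreg : ∀ a : Alg G, ∑ χ : IrrCharacter G, (χ : G → ℂ) 1 * tc (χ : G → ℂ) a =
      (Nat.card G : ℂ) * a.coeff 1 := by
    intro a
    conv_lhs => rw [sum_el a]
    simp only [map_sum, map_smul, tc_el, smul_eq_mul, Finset.mul_sum]
    rw [Finset.sum_comm, Finset.sum_eq_single 1]
    · have h := second_orth (G := G) 1 1
      rw [if_pos (IsConj.refl _), show Nat.card {x : G // IsConj (1 : G) x} = 1 by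
        rw [Nat.card_eq_one_iff_unique]
        exact ⟨⟨fun x y => Subtype.ext ((isConj_one_right.1 x.2).trans (isConj_one_right.1 y.2).symm)⟩,
          ⟨⟨1, IsConj.refl _⟩⟩⟩, Nat.cast_one, div_one] at h
      rw [← h, mul_comm, Finset.mul_sum]
      refine Finset.sum_congr rfl fun χ _ => ?_
      rw [← char_inv (irr_isCharacter χ.2), inv_one]
      ring
    · intro g _ hg
      have h := second_orth (G := G) g 1
      rw [if_neg (fun hc => hg (isConj_one_left.1 hc))] at h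
      rw [← mul_zero (a.coeff g), ← h, Finset.mul_sum]
      refine Finset.sum_congr rfl fun χ _ => ?_
      rw [← char_inv (irr_isCharacter χ.2), inv_one]
      ring
    · simp
  set ν : ℂ := (((Real.sqrt M)⁻¹ : ℝ) : ℂ)
  have hν : ν ≠ 0 := by
    simp only [ν, ne_eq, Complex.ofReal_eq_zero, inv_eq_zero]
    exact (Real.sqrt_ne_zero (by positivity)).2 (by exact_mod_cast hJ.M_ne)
  have hD : ∀ h : Ps L C φ, ∑ χ : IrrCharacter G, (χ : G → ℂ) 1 * Dn J M χ h =
      ν * ∑ χ : IrrCharacter G, (χ : G → ℂ) 1 * En φ χ h := by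
    intro h
    have e1 : ∀ a : Alg G, ∑ χ : IrrCharacter G, (χ : G → ℂ) 1 * (ν * tc (χ : G → ℂ) a) =
        ν * ((Nat.card G : ℂ) * a.coeff 1) := fun a => by
      rw [← hreg, Finset.mul_sum]
      exact Finset.sum_congr rfl fun χ _ => by ring
    simp only [Dn, En]
    rw [e1, hreg, hJ.reg _ h.2.1]
  have h0 : ∑ χ : IrrCharacter G, (χ : G → ℂ) 1 * mult χ ψ = 0 := by
    refine mul_left_cancel₀ hν ?_
    rw [mul_zero]
    calc ν * ∑ χ : IrrCharacter G, (χ : G → ℂ) 1 * mult χ ψ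
        = classInner (fun h => ν * ∑ χ : IrrCharacter G, (χ : G → ℂ) 1 * En φ χ h)
            (cf φ (ψ : ↥(L ⊔ C) → ℂ)) := by
          simp only [← En_inner _ hψ, classInner, Finset.mul_sum, Finset.sum_mul]
          rw [Finset.sum_comm]
          exact Finset.sum_congr rfl fun _ _ => Finset.sum_congr rfl fun _ _ => by ring
      _ = ∑ χ : IrrCharacter G, (χ : G → ℂ) 1 *
            classInner (Dn J M χ : Ps L C φ → ℂ) (cf φ (ψ : ↥(L ⊔ C) → ℂ)) := by
          rw [show (fun h : Ps L C φ => ν * ∑ χ : IrrCharacter G, (χ : G → ℂ) 1 * En φ χ h) =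
            fun h => ∑ χ : IrrCharacter G, (χ : G → ℂ) 1 * Dn J M χ h from
              funext fun h => (hD h).symm]
          simp only [classInner, Finset.mul_sum, Finset.sum_mul]
          rw [Finset.sum_comm]
          exact Finset.sum_congr rfl fun _ _ => Finset.sum_congr rfl fun _ _ => by ring
      _ = 0 := Finset.sum_eq_zero fun χ _ => by rw [hall, mul_zero]
  have h1 : ∑ χ : IrrCharacter G, (χ : G → ℂ) 1 * mult χ ψ =
      (Nat.card ↥(L ⊔ C) : ℂ)⁻¹ * ((Nat.card G : ℂ) * conj ((ψ : ↥(L ⊔ C) → ℂ) 1)) := by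
    simp only [mult, classInner, Finset.mul_sum]
    rw [Finset.sum_comm, Finset.sum_eq_single 1]
    · have h := hreg (el 1)
      simp only [tc_el] at h
      simp only [el, MonoidAlgebra.of_apply, MonoidAlgebra.coeff_single,
        Finsupp.single_eq_same, mul_one] at h
      rw [← h, Finset.sum_mul, Finset.mul_sum]
      refine Finset.sum_congr rfl fun χ _ => ?_
      rw [OneMemClass.coe_one]
      ring
    · intro x _ hx
      have h := hreg (el (x : G))
      simp only [tc_el] at h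
      simp only [el, MonoidAlgebra.of_apply, MonoidAlgebra.coeff_single] at h
      rw [Finsupp.single_eq_of_ne (by simpa using fun e => hx (Subtype.ext e.symm)), mul_zero] at h
      rw [← mul_zero ((Nat.card ↥(L ⊔ C) : ℂ)⁻¹ * conj ((ψ : ↥(L ⊔ C) → ℂ) x)), ← h, Finset.mul_sum]
      exact Finset.sum_congr rfl fun χ _ => by ring
    · simp
  rw [h0, eq_comm, ← char_inv (irr_isCharacter ψ.2), inv_one] at h1
  simp [irr_one_ne_zero ψ.2, Nat.card_pos.ne'] at h1

variable (hd : Ctx L K C φ σ)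

include hd in
/-- The correspondence over `φ`. -/
theorem correspondence :
    (∀ χ : IrrCharacter G, classInner (fun l : L => (χ : G → ℂ) l) (φ : L → ℂ) ≠ 0 →
      (∀ s g, (χ : G → ℂ) (σ s g) = (χ : G → ℂ) g) →
      ∃ ψ : IrrCharacter ↥(L ⊔ C), OverH φ ψ ∧
        (∀ s, ∀ x y : ↥(L ⊔ C), (y : G) = σ s x → (ψ : ↥(L ⊔ C) → ℂ) y = (ψ : ↥(L ⊔ C) → ℂ) x) ∧
        (∀ ψ', OverH φ ψ' → ∀ n : ℕ, mult χ ψ' = n → (Odd n ↔ ψ' = ψ))) ∧
    (∀ χ χ' : IrrCharacter G, classInner (fun l : L => (χ : G → ℂ) l) (φ : L → ℂ) ≠ 0 →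
      classInner (fun l : L => (χ' : G → ℂ) l) (φ : L → ℂ) ≠ 0 →
      (∀ s g, (χ : G → ℂ) (σ s g) = (χ : G → ℂ) g) →
      (∀ s g, (χ' : G → ℂ) (σ s g) = (χ' : G → ℂ) g) →
      ∀ ψ : IrrCharacter ↥(L ⊔ C), OverH φ ψ → ∀ n n' : ℕ, mult χ ψ = n → Odd n →
        mult χ' ψ = n' → Odd n' → χ = χ') ∧
    (∀ ψ : IrrCharacter ↥(L ⊔ C), OverH φ ψ →
      (∀ s, ∀ x y : ↥(L ⊔ C), (y : G) = σ s x → (ψ : ↥(L ⊔ C) → ℂ) y = (ψ : ↥(L ⊔ C) → ℂ) x) →
      ∃ χ : IrrCharacter G, (∀ s g, (χ : G → ℂ) (σ s g) = (χ : G → ℂ) g) ∧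
        ∃ n : ℕ, mult χ ψ = n ∧ Odd n) := by
  obtain ⟨J, N, M, hJ⟩ := exists_parity hd
  obtain ⟨hcchar, -, horth⟩ := cf_facts (L := L) (C := C) (φ := φ)
  have hDne : ∀ χ : IrrCharacter G, classInner (fun l : L => (χ : G → ℂ) l) (φ : L → ℂ) ≠ 0 →
      (∀ s g, (χ : G → ℂ) (σ s g) = (χ : G → ℂ) g) → (Dn J M χ : Ps L C φ → ℂ) ≠ 0 := by
    intro χ hχ hinv h0
    have hnv := hJ.nonvanish χ (by rw [tc_eL]; exact mul_ne_zero (irr_one_ne_zero φ.2) hχ) hinv
    obtain ⟨a, b, -, -, -, h⟩ := signed hJ χ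
    rcases h with ⟨-, h⟩ | ⟨h, -⟩
    · exact hnv h
    · rw [h0, classInner_zero_left] at h; exact zero_ne_one h
  have hnat : ∀ (χ : IrrCharacter G) (ψ : IrrCharacter ↥(L ⊔ C)), ∃ n : ℕ, mult χ ψ = n :=
    fun χ ψ => classInner_natCast (isCharacter_comp (L ⊔ C).subtype (irr_isCharacter χ.2))
      (irr_isCharacter ψ.2)
  -- the automorphism of `L ⊔ C`
  have hmapH : ∀ s, ∀ x ∈ L ⊔ C, σ s x ∈ L ⊔ C := fun s x hx => by
    obtain ⟨l, hl, c, hc, rfl⟩ := Subgroup.mem_sup_of_normal_left.1 hx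
    rw [map_mul, hd.fixC s c hc]
    exact mul_mem (Subgroup.mem_sup_left (hd.mapL s l hl)) (Subgroup.mem_sup_right hc)
  let sH : S → ↥(L ⊔ C) ≃* ↥(L ⊔ C) := fun s =>
    { toFun := fun x => ⟨σ s x, hmapH s x x.2⟩
      invFun := fun x => ⟨σ s⁻¹ x, hmapH s⁻¹ x x.2⟩
      left_inv := fun x => Subtype.ext (by
        show σ s⁻¹ (σ s (x : G)) = x
        rw [← MulAut.mul_apply, ← map_mul, inv_mul_cancel, map_one, MulAut.one_apply])
      right_inv := fun x => Subtype.ext (hd.inv_act s x)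
      map_mul' := fun a b => Subtype.ext (map_mul (σ s) _ _) }
  have hover_moved : ∀ s (ψ : IrrCharacter ↥(L ⊔ C)), OverH φ ψ →
      OverH φ ⟨_, isIrrCharacter_comp_equiv (sH s) ψ.2⟩ := by
    intro s ψ hψ
    refine fun h0 => hψ (Eq.trans ?_ h0)
    simp only [classInner]
    congr 1
    have hbijL := Finite.injective_iff_bijective.1 (fun (x y : L)
      (he : (⟨σ s x, hd.mapL s x x.2⟩ : L) = ⟨σ s y, hd.mapL s y y.2⟩) =>
        Subtype.ext ((σ s).injective (congrArg Subtype.val he)))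
    refine (Fintype.sum_equiv (Equiv.ofBijective _ hbijL) _ _ fun l => ?_).symm
    simp only [Equiv.ofBijective_apply]
    rw [hd.inv s l (hd.mapL s l l.2)]
    rfl
  refine ⟨fun χ hχ hinv => ?_, fun χ χ' hχ hχ' hinv hinv' ψ hψ n n' hn hodd hn' hodd' => ?_,
    fun ψ hψ hinv => ?_⟩
  · obtain ⟨ψ, hψ, hne, hoth, hpar⟩ := exists_odd hJ χ (hDne χ hχ hinv)
    refine ⟨ψ, hψ, fun s x y hxy => ?_, hpar⟩
    by_contra hcon
    set ψ' : IrrCharacter ↥(L ⊔ C) := ⟨_, isIrrCharacter_comp_equiv (sH s) ψ.2⟩ with hψ'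
    have hψne : ψ' ≠ ψ := fun he => hcon (by
      have := congrFun (congrArg Subtype.val he) x
      have h' : (ψ : ↥(L ⊔ C) → ℂ) (sH s x) = (ψ : ↥(L ⊔ C) → ℂ) x := this
      rw [show sH s x = y from Subtype.ext hxy.symm] at h'
      exact h')
    have h1 := hoth ψ' (hover_moved s ψ hψ) hψne
    rw [moved hd hJ s χ χ (fun g => (hinv s g).symm) ψ ψ' (fun x y hy => by
      rw [show y = sH s x from Subtype.ext hy])] at h1
    exact hne h1
  · by_contra hne
    obtain ⟨ψ₁, hψ₁, h1, hoth₁, hp₁⟩ := exists_odd hJ χ (hDne χ hχ hinv)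
    obtain ⟨ψ₂, hψ₂, h2, hoth₂, hp₂⟩ := exists_odd hJ χ' (hDne χ' hχ' hinv')
    obtain rfl := (hp₁ ψ hψ n hn).1 hodd
    obtain rfl := (hp₂ ψ hψ n' hn').1 hodd'
    obtain ⟨a, b, ha, hb, hab, h⟩ := signed hJ χ'
    obtain ⟨hnorm, -⟩ := h.resolve_left fun h => hDne χ' hχ' hinv' h.1
    rw [hab] at hnorm
    obtain ⟨η, hη, hother, -⟩ := exists_of_norm_one ha hb hnorm
    let ηψ : IrrCharacter (Ps L C φ) := ⟨cf φ (ψ : ↥(L ⊔ C) → ℂ),
      isIrr_of_norm_one (hcchar ψ) (by rw [horth, if_pos ⟨rfl, (cf_ne_zero_iff ψ).2 hψ⟩])⟩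
    have heq : ηψ = η := by
      by_contra he
      apply h2
      rw [hab]
      exact hother ηψ he
    have hexp : (Dn J M χ' : Ps L C φ → ℂ) =
        classInner (a - b) (η : Ps L C φ → ℂ) • (η : Ps L C φ → ℂ) := by
      rw [hab]
      conv_lhs => rw [classFun_expansion (f := a - b) (fun x y => by
        simp only [Pi.sub_apply, isClassFunction_character ha x y, isClassFunction_character hb x y])]
      refine Finset.sum_eq_single η (fun ζ _ hζ => by rw [hother ζ hζ, zero_smul]) (by simp)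
    have h0 := Dn_orth hJ χ χ' hne
    rw [hexp, classInner_smul_right, ← heq] at h0
    rcases mul_eq_zero.1 h0 with h0 | h0
    · refine hη ?_
      rw [← heq]
      simpa using h0
    · exact h1 h0
  · obtain ⟨χ, hχ⟩ := exists_over hJ hψ
    have hDn : (Dn J M χ : Ps L C φ → ℂ) ≠ 0 := fun h0 => hχ (by rw [h0, classInner_zero_left])
    obtain ⟨ψ₁, hψ₁, h1, hoth, hp⟩ := exists_odd hJ χ hDn
    have hψeq : ψ = ψ₁ := by
      by_contra hne
      exact hχ (hoth ψ hψ hne)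
    obtain ⟨n, hn⟩ := hnat χ ψ
    refine ⟨χ, fun s g => ?_, n, hn, (hp ψ hψ n hn).2 hψeq⟩
    by_contra hcon
    set χ' : IrrCharacter G := irrComp (σ s) χ with hχ'
    have hne : χ' ≠ χ := fun he => hcon (by
      have := congrFun (congrArg Subtype.val he) g
      simpa [hχ'] using this)
    have h3 := moved hd hJ s χ χ' (fun g => rfl) ψ ψ (fun x y hy => (hinv s x y hy).symm)
    have hDn' : (Dn J M χ' : Ps L C φ → ℂ) ≠ 0 := fun h0 => hχ (by
      rw [← h3, h0, classInner_zero_left])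
    obtain ⟨a, b, ha, hb, hab, h⟩ := signed hJ χ'
    obtain ⟨hnorm, -⟩ := h.resolve_left fun h => hDn' h.1
    rw [hab] at hnorm
    obtain ⟨η, hη, hother, -⟩ := exists_of_norm_one ha hb hnorm
    let ηψ : IrrCharacter (Ps L C φ) := ⟨cf φ (ψ : ↥(L ⊔ C) → ℂ),
      isIrr_of_norm_one (hcchar ψ) (by rw [horth, if_pos ⟨rfl, (cf_ne_zero_iff ψ).2 hψ⟩])⟩
    have heq : ηψ = η := by
      by_contra he
      apply hχ
      rw [← h3, hab]
      exact hother ηψ he
    have hexp : (Dn J M χ' : Ps L C φ → ℂ) =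
        classInner (a - b) (η : Ps L C φ → ℂ) • (η : Ps L C φ → ℂ) := by
      rw [hab]
      conv_lhs => rw [classFun_expansion (f := a - b) (fun x y => by
        simp only [Pi.sub_apply, isClassFunction_character ha x y, isClassFunction_character hb x y])]
      refine Finset.sum_eq_single η (fun ζ _ hζ => by rw [hother ζ hζ, zero_smul]) (by simp)
    have h0 := Dn_orth hJ χ χ' (Ne.symm hne)
    rw [hexp, classInner_smul_right, ← heq] at h0
    rcases mul_eq_zero.1 h0 with h0 | h0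
    · refine hη ?_
      rw [← heq]
      simpa using h0
    · exact hχ h0

end Main

end Cfsg.Agent.Char.OddCorr
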