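import Cfsg.Agent.Lib.Char.OddCorr.Base
import Cfsg.Agent.Lib.Char.Glauberman

/-!
# The corner of an invariant character of a normal subgroup
-/

set_option autoImplicit false
set_option linter.unusedSectionVars false
set_option linter.style.haveILetI false

namespace Cfsg.Agent.Char.OddCorr

open Cfsg Module
open scoped ComplexConjugate

universe u

variable {G : Type u} [Group G] [Fintype G] (L : Subgroup G) [L.Normal] [Fintype L]

/-- A function on `L` inside the group algebra of `G`. -/
noncomputable def emb : (L → ℂ) →ₗ[ℂ] Alg G where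
  toFun f := ∑ l : L, f l • el (l : G)
  map_add' f g := by simp [add_smul, Finset.sum_add_distrib]
  map_smul' c f := by simp [Finset.smul_sum, smul_smul]

theorem emb_mul (f g : L → ℂ) : emb L f * emb L g = emb L (conv f g) := by
  simp only [emb, LinearMap.coe_mk, AddHom.coe_mk, Finset.sum_mul, Finset.mul_sum,
    smul_mul_smul_comm, ← el_mul, conv, Finset.sum_smul]
  rw [Finset.sum_comm (f := fun (i : L) (j : L) => (f j * g (j⁻¹ * i)) • el (i : G)), Finset.sum_comm]
  refine Finset.sum_congr rfl fun a _ => Fintype.sum_equiv (Equiv.mulLeft a) _ _ fun b => ?_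
  simp

theorem emb_single [DecidableEq L] (l : L) : emb L (Pi.single l 1) = el (l : G) := by
  simp [emb, Pi.single_apply, ite_smul]

theorem emb_coeff (f : L → ℂ) (l : L) : (emb L f).coeff (l : G) = f l := by
  classical
  simp [emb, MonoidAlgebra.coeff_sum, el, MonoidAlgebra.of_apply, Finsupp.finset_sum_apply,
    Finsupp.single_apply, Subtype.ext_iff.symm]

theorem emb_injective : Function.Injective (emb L) := fun f g h =>
  funext fun l => by rw [← emb_coeff L f, h, emb_coeff]

/-- Conjugation on the embedded functions. -/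
theorem el_emb (g : G) (f : L → ℂ) :
    el g * emb L f = emb L (fun l => f (MulAut.conjNormal g⁻¹ l)) * el g := by
  simp only [emb, LinearMap.coe_mk, AddHom.coe_mk, Finset.mul_sum, Finset.sum_mul, mul_smul_comm,
    smul_mul_assoc, ← el_mul]
  refine Fintype.sum_equiv (MulAut.conjNormal g : MulAut L).toEquiv _ _ fun l => ?_
  simp [mul_assoc]

variable (φ : IrrCharacter L)

/-- The idempotent of `φ`. -/
noncomputable def eL : Alg G := emb L (idem (φ : L → ℂ))

theorem eL_mul_self : eL L φ * eL L φ = eL L φ := by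
  rw [eL, emb_mul, conv_idem, if_pos rfl]

theorem eL_mul_class {f : L → ℂ} (hf : IsClassFunction L f) :
    emb L f * eL L φ = lam (φ : L → ℂ) f • eL L φ := by
  classical
  conv_lhs => rw [classFun_eq_sum_idem hf]
  rw [map_sum, Finset.sum_mul, Finset.sum_eq_single φ]
  · rw [map_smul, smul_mul_assoc, eL, emb_mul, conv_idem, if_pos rfl]
  · intro ψ _ hne
    rw [map_smul, smul_mul_assoc, eL, emb_mul, conv_idem, if_neg hne, map_zero, smul_zero]
  · simp

/-- The stabiliser of `φ`. -/
def stab : Subgroup G where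
  carrier := {g | ∀ l : L, (φ : L → ℂ) (MulAut.conjNormal g l) = (φ : L → ℂ) l}
  one_mem' := fun n => by rw [map_one]; rfl
  mul_mem' := fun {a b} ha hb n => by rw [map_mul, MulAut.mul_apply, ha, hb]
  inv_mem' := fun {a} ha n => by
    conv_rhs => rw [show n = MulAut.conjNormal a (MulAut.conjNormal a⁻¹ n) by
      rw [← MulAut.mul_apply, ← map_mul, mul_inv_cancel, map_one]; rfl]
    rw [ha]

theorem mem_stab {g : G} :
    g ∈ stab L φ ↔ ∀ l : L, (φ : L → ℂ) (MulAut.conjNormal g l) = (φ : L → ℂ) l := Iff.rfl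

theorem le_stab : L ≤ stab L φ := fun x hx n => by
  rw [show MulAut.conjNormal x n = (⟨x, hx⟩ : L) * n * (⟨x, hx⟩ : L)⁻¹ from Subtype.ext (by simp),
    isClassFunction_character (irr_isCharacter φ.2)]

theorem el_eL_comm {g : G} (hg : g ∈ stab L φ) : el g * eL L φ = eL L φ * el g := by
  rw [eL, el_emb]
  congr 2
  funext l
  simp only [idem]
  rw [(mem_stab L φ).1 (inv_mem hg) l]

theorem eL_el_eL {g : G} (hg : g ∉ stab L φ) : eL L φ * el g * eL L φ = 0 := by
  rw [mul_assoc, eL, el_emb, ← mul_assoc, emb_mul]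
  have he : (fun l => idem (φ : L → ℂ) (MulAut.conjNormal g⁻¹ l)) =
      idem (irrComp (MulAut.conjNormal g⁻¹ : MulAut L) φ : L → ℂ) := by
    funext l
    simp only [idem, irrComp_apply, map_one]
  rw [he, conv_idem, if_neg, map_zero, zero_mul]
  intro h
  apply hg
  have : g⁻¹ ∈ stab L φ := fun l => by
    have := congrFun (congrArg Subtype.val h) l
    exact this.symm
  simpa using inv_mem this

/-- Elements of the coset `L k`, commuting with `L`, inside the corner. -/
structure InZ (k : G) (a : Alg G) : Prop where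
  coset : ∃ f : L → ℂ, a = emb L f * el k
  left : eL L φ * a = a
  right : a * eL L φ = a
  comm : ∀ l : L, el (l : G) * a = a * el (l : G)

theorem eL_inZ : InZ L φ 1 (eL L φ) :=
  ⟨⟨idem (φ : L → ℂ), by rw [el_one, mul_one]; rfl⟩, eL_mul_self L φ, eL_mul_self L φ,
    fun l => el_eL_comm L φ (le_stab L φ l.2)⟩

theorem InZ.mul {k k' : G} {a b : Alg G} (ha : InZ L φ k a) (hb : InZ L φ k' b) :
    InZ L φ (k * k') (a * b) where
  coset := by
    obtain ⟨f, rfl⟩ := ha.coset
    obtain ⟨f', rfl⟩ := hb.coset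
    exact ⟨_, by rw [el_mul, ← mul_assoc (emb L f * el k), mul_assoc (emb L f) (el k), el_emb,
      ← mul_assoc (emb L f), emb_mul, mul_assoc]⟩
  left := by rw [← mul_assoc, ha.left]
  right := by rw [mul_assoc, hb.right]
  comm l := by rw [← mul_assoc, ha.comm, mul_assoc, hb.comm, mul_assoc]

theorem InZ.coset_congr {k : G} {a : Alg G} (ha : InZ L φ k a) {k' : G} (h : k' * k⁻¹ ∈ L) :
    InZ L φ k' a where
  coset := by
    classical
    obtain ⟨f, rfl⟩ := ha.coset
    refine ⟨conv f (Pi.single (⟨k * k'⁻¹, by simpa using inv_mem h⟩ : L) 1), ?_⟩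
    rw [← emb_mul, emb_single, mul_assoc, ← el_mul]
    simp
  left := ha.left
  right := ha.right
  comm := ha.comm

theorem isClassFunction_of_comm {f : L → ℂ}
    (h : ∀ l : L, el (l : G) * emb L f = emb L f * el (l : G)) : IsClassFunction L f := by
  intro x y
  have h1 := h y⁻¹
  rw [el_emb] at h1
  have h2 := congrArg (fun z => z * el ((y⁻¹ : L) : G)⁻¹) h1
  simp only [mul_assoc, ← el_mul, mul_inv_cancel, el_one, mul_one] at h2
  have h3 := congrFun (emb_injective L h2) x
  rw [show y * x * y⁻¹ = MulAut.conjNormal ((y⁻¹ : L) : G)⁻¹ x from Subtype.ext (by simp)]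
  exact h3

theorem InZ.one_scalar {a : Alg G} (ha : InZ L φ 1 a) : ∃ c : ℂ, a = c • eL L φ := by
  obtain ⟨f, hf⟩ := ha.coset
  rw [el_one, mul_one] at hf
  subst hf
  exact ⟨_, ha.right.symm.trans (eL_mul_class L φ (isClassFunction_of_comm L ha.comm))⟩

/-- The functional `φ` on the embedded functions. -/
noncomputable def phiFun : Alg G →ₗ[ℂ] ℂ where
  toFun a := ∑ l : L, a.coeff (l : G) * (φ : L → ℂ) l
  map_add' a b := by simp [add_mul, Finset.sum_add_distrib]
  map_smul' c a := by simp [Finset.mul_sum, mul_assoc]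

theorem phiFun_el (l : L) : phiFun L φ (el (l : G)) = (φ : L → ℂ) l := by
  classical
  simp [phiFun, el, MonoidAlgebra.of_apply, Finsupp.single_apply, Subtype.ext_iff.symm]

theorem eL_ne_zero : eL L φ ≠ 0 := fun h => by
  have := emb_injective L (h.trans (map_zero _).symm)
  have h1 := congrFun this 1
  simp only [idem, Pi.zero_apply, mul_eq_zero, inv_eq_zero, Nat.cast_eq_zero] at h1
  have h0 := irr_one_ne_zero φ.2
  rcases h1 with h1 | h1 | h1
  · exact Nat.card_pos.ne' h1
  · exact h0 h1
  · exact h0 (by simpa using h1)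

/-- Units over the elements of the stabiliser. -/
theorem exists_unit {k : G} (hk : k ∈ stab L φ) :
    ∃ a b, InZ L φ k a ∧ InZ L φ k⁻¹ b ∧ a * b = eL L φ ∧ b * a = eL L φ := by
  classical
  set e := eL L φ
  let av : G → Alg G := fun x => ∑ l : L, el ((l : G) * x * (l : G)⁻¹)
  have hcomm : ∀ (x : G) (m : L), el (m : G) * av x = av x * el (m : G) := fun x m => by
    simp only [av, Finset.mul_sum, Finset.sum_mul, ← el_mul]
    refine Fintype.sum_equiv (Equiv.mulLeft m) _ _ fun l => ?_
    simp [mul_assoc]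
  have hcommE : ∀ x : G, x ∈ stab L φ → e * av x = av x * e := by
    intro x hx
    simp only [av, Finset.mul_sum, Finset.sum_mul]
    exact Finset.sum_congr rfl fun l _ => (el_eL_comm L φ (mul_mem (mul_mem (le_stab L φ l.2) hx)
      (inv_mem (le_stab L φ l.2)))).symm
  have hZ : ∀ x : G, x ∈ stab L φ → InZ L φ x (av x * e) := by
    intro x hx
    have he := hcommE x hx
    refine ⟨?_, by rw [← mul_assoc, he, mul_assoc, eL_mul_self], by
      rw [mul_assoc, eL_mul_self], fun m => by
      rw [← mul_assoc, hcomm, mul_assoc, el_eL_comm L φ (le_stab L φ m.2), mul_assoc]⟩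
    refine ⟨conv (∑ l : L, Pi.single (⟨(l : G) * x * (l : G)⁻¹ * x⁻¹, by
        simpa only [mul_assoc] using mul_mem l.2
          (Subgroup.Normal.conj_mem inferInstance _ (inv_mem l.2) x)⟩ : L) 1) (idem (φ : L → ℂ)), ?_⟩
    rw [← emb_mul, mul_assoc (emb L _)]
    show _ = _ * (eL L φ * el x)
    rw [← el_eL_comm L φ hx, ← mul_assoc, map_sum]
    congr 1
    simp only [av, Finset.sum_mul]
    refine Finset.sum_congr rfl fun l _ => ?_
    rw [emb_single, ← el_mul]
    simp
  set W : Alg G := ∑ x : L, av ((x : G) * k) * el ((x : G) * k)⁻¹ with hW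
  let cm : L → L → L := fun x l => ⟨(l : G) * ((x : G) * k) * (l : G)⁻¹ * ((x : G) * k)⁻¹, by
    simpa only [mul_assoc] using mul_mem l.2
      (Subgroup.Normal.conj_mem inferInstance _ (inv_mem l.2) ((x : G) * k))⟩
  have hWsum : W = ∑ x : L, ∑ l : L, el ((cm x l : L) : G) := by
    simp only [hW, av, Finset.sum_mul, ← el_mul, cm]
  have hWemb : W = emb L (∑ x : L, ∑ l : L, Pi.single (cm x l) 1) := by
    simp only [hWsum, map_sum, emb_single]
  have hWcomm : ∀ m : L, el (m : G) * W = W * el (m : G) := by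
    intro m
    simp only [hW, Finset.mul_sum, Finset.sum_mul]
    let π : L ≃ L :=
      { toFun := fun x => ⟨(m : G) * x * (k * (m : G)⁻¹ * k⁻¹),
          mul_mem (mul_mem m.2 x.2) (Subgroup.Normal.conj_mem inferInstance _ (inv_mem m.2) k)⟩
        invFun := fun x => ⟨(m : G)⁻¹ * x * (k * (m : G) * k⁻¹),
          mul_mem (mul_mem (inv_mem m.2) x.2) (Subgroup.Normal.conj_mem inferInstance _ m.2 k)⟩
        left_inv := fun x => Subtype.ext (by group)
        right_inv := fun x => Subtype.ext (by group) }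
    refine Fintype.sum_equiv π _ _ fun x => ?_
    simp only [π, Equiv.coe_fn_mk]
    have hav : av ((m : G) * x * (k * (m : G)⁻¹ * k⁻¹) * k) = av ((x : G) * k) := by
      simp only [av]
      refine Fintype.sum_equiv (Equiv.mulRight m) _ _ fun l => ?_
      simp only [Equiv.coe_mulRight, Subgroup.coe_mul]
      congr 1
      group
    rw [hav, ← mul_assoc (el (m : G)), hcomm, mul_assoc, mul_assoc, ← el_mul, ← el_mul]
    congr 2
    group
  have hfc := isClassFunction_of_comm L (f := ∑ x : L, ∑ l : L, Pi.single (cm x l) 1)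
    (by rw [← hWemb]; exact hWcomm)
  set r := lam (φ : L → ℂ) (∑ x : L, ∑ l : L, Pi.single (cm x l) 1)
  have hWe : W * e = r • e := by rw [hWemb]; exact eL_mul_class L φ hfc
  have hr : r ≠ 0 := by
    have h1 : r * (φ : L → ℂ) 1 = ∑ x : L, ∑ l : L, (φ : L → ℂ) (cm x l) := by
      simp only [r, lam]
      rw [div_mul_cancel₀ _ (irr_one_ne_zero φ.2)]
      simp only [Finset.sum_apply, Finset.sum_mul]
      rw [Finset.sum_comm]
      refine Finset.sum_congr rfl fun x _ => ?_
      rw [Finset.sum_comm]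
      simp [Pi.single_apply]
    have h2 : (φ : L → ℂ) 1 * ∑ x : L, ∑ l : L, (φ : L → ℂ) (cm x l) =
        (Nat.card L : ℂ) * ∑ l : L, (φ : L → ℂ) l * conj ((φ : L → ℂ) l) := by
      rw [Finset.sum_comm, Finset.mul_sum, Finset.mul_sum]
      refine Finset.sum_congr rfl fun l _ => ?_
      have h3 := sum_conj_mul φ.2 l (MulAut.conjNormal k l⁻¹)
      rw [(mem_stab L φ).1 hk, char_inv (irr_isCharacter φ.2)] at h3
      rw [← mul_assoc, ← h3]
      congr 1
      refine Finset.sum_congr rfl fun x _ => congrArg (φ : L → ℂ) (Subtype.ext ?_)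
      simp [cm]
      group
    have h4 := irr_self φ.2
    rw [classInner] at h4
    intro h0
    rw [h0, zero_mul] at h1
    rw [← h1, mul_zero] at h2
    rcases mul_eq_zero.1 h2.symm with h5 | h5
    · exact Nat.card_pos.ne' (Nat.cast_eq_zero.1 h5)
    · rw [h5, mul_zero] at h4; exact zero_ne_one h4
  obtain ⟨x, hx⟩ : ∃ x : L, av ((x : G) * k) * e * (av ((x : G) * k)⁻¹ * e) ≠ 0 := by
    by_contra hall
    push Not at hall
    have hxk : ∀ x : L, (x : G) * k ∈ stab L φ := fun x => mul_mem (le_stab L φ x.2) hk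
    have h0 : ∀ x : L, av ((x : G) * k) * e * (av ((x : G) * k)⁻¹ * e) =
        ∑ l : L, el (l : G) * (av ((x : G) * k) * el ((x : G) * k)⁻¹) * el (l : G)⁻¹ * e := by
      intro x
      rw [mul_assoc, ← mul_assoc e, hcommE _ (inv_mem (hxk x)), mul_assoc, eL_mul_self]
      have key : ∀ (A : Alg G) (y : G), (∀ l : L, el (l : G) * A = A * el (l : G)) →
          A * (av y * e) = ∑ l : L, el (l : G) * (A * el y) * el (l : G)⁻¹ * e := by
        intro A y hA
        simp only [av, Finset.sum_mul, Finset.mul_sum]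
        refine Finset.sum_congr rfl fun l _ => ?_
        rw [← mul_assoc (el (l : G)), hA, el_mul, el_mul]
        simp only [mul_assoc]
      exact key _ _ (hcomm _)
    have hsum : ∑ x : L, av ((x : G) * k) * e * (av ((x : G) * k)⁻¹ * e) =
        (Fintype.card L : ℂ) • (r • e) := by
      simp only [h0]
      rw [Finset.sum_comm, ← hWe]
      simp only [← Finset.sum_mul, ← Finset.mul_sum, ← hW, hWcomm, mul_assoc W, ← el_mul,
        mul_inv_cancel, el_one, mul_one]
      rw [Finset.sum_const, Finset.card_univ, ← Nat.cast_smul_eq_nsmul ℂ, smul_mul_assoc]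
    rw [Finset.sum_eq_zero (fun x _ => hall x)] at hsum
    have := hsum.symm
    simp [smul_eq_zero, hr, Fintype.card_ne_zero, e, eL_ne_zero] at this
  have hmem : (x : G) * k ∈ stab L φ := mul_mem (le_stab L φ x.2) hk
  have ha : InZ L φ k (av ((x : G) * k) * e) := (hZ _ hmem).coset_congr L φ (by simp)
  have hb : InZ L φ k⁻¹ (av ((x : G) * k)⁻¹ * e) := (hZ _ (inv_mem hmem)).coset_congr L φ (by
    simpa [mul_assoc] using Subgroup.Normal.conj_mem inferInstance _ x.2 k⁻¹)
  set a := av ((x : G) * k) * e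
  set b := av ((x : G) * k)⁻¹ * e
  have hab := ha.mul L φ hb
  rw [mul_inv_cancel] at hab
  obtain ⟨c, hc⟩ := hab.one_scalar L φ
  have hba := hb.mul L φ ha
  rw [inv_mul_cancel] at hba
  obtain ⟨c', hc'⟩ := hba.one_scalar L φ
  have hc0 : c ≠ 0 := fun h => hx (by rw [hc, h, zero_smul])
  have hcc : c = c' := by
    have h1 : b * (a * b) = c • b := by rw [hc, mul_smul_comm, hb.right]
    rw [← mul_assoc, hc', smul_mul_assoc, hb.left] at h1
    refine (smul_left_injective ℂ (?_ : b ≠ 0) h1).symm
    intro h0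
    exact hx (by rw [h0, mul_zero])
  refine ⟨c⁻¹ • a, b, ⟨?_, by rw [mul_smul_comm, ha.left], by rw [smul_mul_assoc, ha.right],
    fun l => by rw [mul_smul_comm, ha.comm, smul_mul_assoc]⟩, hb, ?_, ?_⟩
  · obtain ⟨f, hf⟩ := ha.coset
    exact ⟨c⁻¹ • f, by rw [hf, map_smul, smul_mul_assoc]⟩
  · rw [smul_mul_assoc, hc, smul_smul, inv_mul_cancel₀ hc0, one_smul]
  · rw [mul_smul_comm, hc', ← hcc, smul_smul, inv_mul_cancel₀ hc0, one_smul]

/-- The lines are one-dimensional. -/
theorem InZ.exists_smul {k : G} {a a' b : Alg G} (ha : InZ L φ k a) (hb : InZ L φ k⁻¹ b)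
    (hba : b * a = eL L φ) (ha' : InZ L φ k a') : ∃ c : ℂ, a' = c • a := by
  have h := ha'.mul L φ hb
  rw [mul_inv_cancel] at h
  obtain ⟨c, hc⟩ := h.one_scalar L φ
  exact ⟨c, by rw [← ha'.right, ← hba, ← mul_assoc, hc, smul_mul_assoc, ha.left]⟩

end Cfsg.Agent.Char.OddCorr
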