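import Mathlib

/-!
# Twisted systems over abelian groups of odd order
-/

set_option autoImplicit false
set_option linter.unusedSectionVars false

namespace Cfsg.Agent.Char.OddCorr

variable {A : Type*} [Ring A] [Algebra ℂ A] {V : Type*} [CommGroup V] [Fintype V]

/-- Units of a corner, indexed by an abelian group, multiplying up to scalars. -/
structure Twisted (e : A) (u : V → A) (f : V → V → ℂ) : Prop where
  e_ne : e ≠ 0
  f_ne : ∀ v w, f v w ≠ 0
  one : u 1 = e
  left : ∀ v, e * u v = u v
  right : ∀ v, u v * e = u v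
  mul : ∀ v w, u v * u w = f v w • u (v * w)

/-- The commutator pairing. -/
noncomputable def beta (f : V → V → ℂ) (v w : V) : ℂ := f v w / f w v

/-- Its square root. -/
noncomputable def bb (f : V → V → ℂ) (v w : V) : ℂ := beta f v w ^ ((Fintype.card V + 1) / 2)

variable {e : A} {u : V → A} {f : V → V → ℂ}

theorem Twisted.ne_zero (h : Twisted e u f) (v : V) : u v ≠ 0 := fun h0 => by
  have := h.mul v v⁻¹
  rw [h0, zero_mul, mul_inv_cancel, h.one] at this
  exact h.e_ne ((smul_eq_zero.1 this.symm).resolve_left (h.f_ne _ _))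

theorem Twisted.cancel (h : Twisted e u f) {a b : ℂ} {v : V} (he : a • u v = b • u v) : a = b :=
  smul_left_injective ℂ (h.ne_zero v) he

theorem Twisted.cocycle (h : Twisted e u f) (v w x : V) :
    f v w * f (v * w) x = f w x * f v (w * x) := by
  have h1 := mul_assoc (u v) (u w) (u x)
  rw [h.mul v w, smul_mul_assoc, h.mul, smul_smul, h.mul w x, mul_smul_comm, h.mul, smul_smul,
    ← mul_assoc v w x] at h1
  exact h.cancel h1

theorem Twisted.f_one (h : Twisted e u f) (v : V) : f 1 v = 1 ∧ f v 1 = 1 := by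
  refine ⟨h.cancel (v := v) ?_, h.cancel (v := v) ?_⟩
  · have := h.mul 1 v
    rw [h.one, h.left, one_mul] at this
    rw [← this, one_smul]
  · have := h.mul v 1
    rw [h.one, h.right, mul_one] at this
    rw [← this, one_smul]

theorem Twisted.beta_ne (h : Twisted e u f) (v w : V) : beta f v w ≠ 0 :=
  div_ne_zero (h.f_ne _ _) (h.f_ne _ _)

theorem Twisted.comm (h : Twisted e u f) (v w : V) : u v * u w = beta f v w • (u w * u v) := by
  rw [h.mul, h.mul, smul_smul, beta, div_mul_cancel₀ _ (h.f_ne w v), mul_comm w v]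

theorem Twisted.beta_swap (h : Twisted e u f) (v w : V) : beta f v w * beta f w v = 1 := by
  rw [beta, beta, div_mul_div_comm, mul_comm (f w v) (f v w), div_self]
  exact mul_ne_zero (h.f_ne _ _) (h.f_ne _ _)

theorem Twisted.beta_mul_left (h : Twisted e u f) (v v' w : V) :
    beta f (v * v') w = beta f v w * beta f v' w := by
  have h1 : u v * u v' * u w = (beta f v' w * beta f v w) • (u w * (u v * u v')) := by
    rw [mul_assoc, h.comm v' w, mul_smul_comm, ← mul_assoc, h.comm v w, smul_mul_assoc, smul_smul,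
      mul_assoc (u w)]
  rw [h.mul v v', smul_mul_assoc, mul_smul_comm, h.comm (v * v') w, smul_smul, smul_smul,
    h.mul w (v * v'), smul_smul, smul_smul] at h1
  have h2 := h.cancel h1
  refine mul_left_cancel₀ (h.f_ne v v') (mul_right_cancel₀ (h.f_ne w (v * v')) ?_)
  linear_combination h2

theorem Twisted.beta_mul_right (h : Twisted e u f) (v w w' : V) :
    beta f v (w * w') = beta f v w * beta f v w' := by
  have h1 := h.beta_swap v (w * w')
  rw [h.beta_mul_left] at h1
  refine mul_right_cancel₀ (mul_ne_zero (h.beta_ne w v) (h.beta_ne w' v)) (h1.trans ?_)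
  linear_combination -h.beta_swap v w' - h.beta_swap v w * (beta f v w' * beta f w' v)

theorem Twisted.beta_pow_card (h : Twisted e u f) (v w : V) :
    beta f v w ^ Fintype.card V = 1 := by
  let F : V →* ℂ :=
    { toFun := fun x => beta f x w
      map_one' := mul_right_cancel₀ (h.beta_ne 1 w) (by rw [← h.beta_mul_left, one_mul, one_mul])
      map_mul' := fun a b => h.beta_mul_left a b w }
  show F v ^ _ = 1
  rw [← map_pow, pow_card_eq_one, map_one]

/-- A bilinear alternating pairing with inverse symmetry. -/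
structure Pairing (b : V → V → ℂ) : Prop where
  mul_left : ∀ v v' w, b (v * v') w = b v w * b v' w
  mul_right : ∀ v w w', b v (w * w') = b v w * b v w'
  swap : ∀ v w, b v w * b w v = 1
  self : ∀ v, b v v = 1

theorem Pairing.ne {b : V → V → ℂ} (hb : Pairing b) (v w : V) : b v w ≠ 0 := fun h0 => by
  have := hb.swap v w
  rw [h0, zero_mul] at this
  exact zero_ne_one this

theorem Pairing.one_left {b : V → V → ℂ} (hb : Pairing b) (w : V) : b 1 w = 1 :=
  mul_right_cancel₀ (hb.ne 1 w) (by rw [← hb.mul_left, one_mul, one_mul])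

theorem Pairing.one_right {b : V → V → ℂ} (hb : Pairing b) (w : V) : b w 1 = 1 :=
  mul_right_cancel₀ (hb.ne w 1) (by rw [← hb.mul_right, one_mul, one_mul])

theorem Pairing.inv_left {b : V → V → ℂ} (hb : Pairing b) (v w : V) : b v⁻¹ w = b w v := by
  refine mul_right_cancel₀ (hb.ne v w) ?_
  rw [← hb.mul_left, inv_mul_cancel, hb.one_left, hb.swap]

theorem Twisted.bb_pairing (h : Twisted e u f) : Pairing (bb f) where
  mul_left v v' w := by simp only [bb, h.beta_mul_left, mul_pow]
  mul_right v w w' := by simp only [bb, h.beta_mul_right, mul_pow]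
  swap v w := by simp only [bb, ← mul_pow, h.beta_swap, one_pow]
  self v := by
    show beta f v v ^ _ = 1
    rw [show beta f v v = 1 from div_self (h.f_ne v v), one_pow]

theorem Twisted.bb_sq (h : Twisted e u f) (hodd : Odd (Fintype.card V)) (v w : V) :
    bb f v w * bb f v w = beta f v w := by
  obtain ⟨m, hm⟩ := hodd
  rw [bb, ← pow_add, show (Fintype.card V + 1) / 2 + (Fintype.card V + 1) / 2 =
    Fintype.card V + 1 by omega, pow_succ, h.beta_pow_card, one_mul]

theorem exists_common_eigenvector {W : Type*} [AddCommGroup W] [Module ℂ W]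
    [FiniteDimensional ℂ W] [Nontrivial W] {ι : Type*} (T : ι → Module.End ℂ W)
    (hc : ∀ i j, T i * T j = T j * T i) (s : Finset ι) :
    ∀ U : Submodule ℂ W, U ≠ ⊥ → (∀ i, ∀ x ∈ U, T i x ∈ U) →
      ∃ x ∈ U, x ≠ 0 ∧ ∀ i ∈ s, ∃ c : ℂ, T i x = c • x := by
  classical
  induction s using Finset.induction_on with
  | empty =>
    intro U hU _
    obtain ⟨x, hx, hx0⟩ := U.exists_mem_ne_zero_of_ne_bot hU
    exact ⟨x, hx, hx0, by simp⟩
  | @insert i s _ ih =>
    intro U hU hT
    haveI : Nontrivial U := Submodule.nontrivial_iff_ne_bot.2 hU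
    obtain ⟨c, hcv⟩ := Module.End.exists_eigenvalue ((T i).restrict (hT i))
    obtain ⟨y, hy, hy0⟩ := hcv.exists_hasEigenvector
    let U' : Submodule ℂ W := U ⊓ Module.End.eigenspace (T i) c
    have hyU : (y : W) ∈ U' := ⟨y.2, by
      rw [SetLike.mem_coe, Module.End.mem_eigenspace_iff]
      exact congrArg Subtype.val (Module.End.mem_eigenspace_iff.1 hy)⟩
    obtain ⟨x, hx, hx0, hxs⟩ := ih U' (fun hb => hy0 (Subtype.ext (by
      rw [hb, Submodule.mem_bot] at hyU
      exact hyU))) (fun j x hx => ⟨hT j x hx.1, by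
        have hx2 : T i x = c • x := Module.End.mem_eigenspace_iff.1 hx.2
        rw [SetLike.mem_coe, Module.End.mem_eigenspace_iff, ← Module.End.mul_apply, hc,
          Module.End.mul_apply, hx2, map_smul]⟩)
    refine ⟨x, hx.1, hx0, fun j hj => ?_⟩
    rcases Finset.mem_insert.1 hj with rfl | hj
    · exact ⟨c, Module.End.mem_eigenspace_iff.1 hx.2⟩
    · exact hxs j hj

/-- Symmetric cocycles on abelian groups are coboundaries. -/
theorem exists_coboundary (F : V → V → ℂ) (hne : ∀ v w, F v w ≠ 0)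
    (hsymm : ∀ v w, F v w = F w v) (hone : ∀ v, F 1 v = 1)
    (hco : ∀ v w x, F v w * F (v * w) x = F w x * F v (w * x)) :
    ∃ g : V → ℂ, (∀ v, g v ≠ 0) ∧ g 1 = 1 ∧ ∀ v w, g v * g w = F v w * g (v * w) := by
  classical
  let T : V → Module.End ℂ (V → ℂ) := fun v =>
    { toFun := fun φ x => F v (v⁻¹ * x) * φ (v⁻¹ * x)
      map_add' := fun a b => by funext x; simp [mul_add]
      map_smul' := fun c a => by funext x; simp; ring }
  have hmul : ∀ v w, T v * T w = F v w • T (v * w) := fun v w => by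
    refine LinearMap.ext fun φ => funext fun x => ?_
    show F v (v⁻¹ * x) * (F w (w⁻¹ * (v⁻¹ * x)) * φ (w⁻¹ * (v⁻¹ * x))) =
      F v w * (F (v * w) ((v * w)⁻¹ * x) * φ ((v * w)⁻¹ * x))
    rw [show w⁻¹ * (v⁻¹ * x) = (v * w)⁻¹ * x by rw [mul_inv_rev, mul_assoc]]
    have := hco v w ((v * w)⁻¹ * x)
    rw [show w * ((v * w)⁻¹ * x) = v⁻¹ * x by
      rw [mul_inv_rev, ← mul_assoc, ← mul_assoc, mul_inv_cancel, one_mul]] at this
    linear_combination -φ ((v * w)⁻¹ * x) * this
  have hc : ∀ v w, T v * T w = T w * T v := fun v w => by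
    rw [hmul, hmul, hsymm, mul_comm v w]
  obtain ⟨x, -, hx0, hx⟩ :=
    exists_common_eigenvector T hc Finset.univ ⊤ top_ne_bot (fun _ _ _ => Submodule.mem_top)
  choose g hg using fun v => hx v (Finset.mem_univ v)
  have hgm : ∀ v w, g v * g w = F v w * g (v * w) := fun v w => by
    have h1 := congrArg (fun T' : Module.End ℂ (V → ℂ) => T' x) (hmul v w)
    simp only [Module.End.mul_apply, LinearMap.smul_apply, hg, map_smul, smul_smul] at h1
    exact (mul_comm _ _).trans (smul_left_injective ℂ hx0 h1)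
  have hg1 : g 1 = 1 := smul_left_injective ℂ hx0 (by
    simp only [← hg, one_smul]
    funext y
    show F 1 (1⁻¹ * y) * x (1⁻¹ * y) = x y
    rw [inv_one, one_mul, hone, one_mul])
  refine ⟨g, fun v h0 => ?_, hg1, hgm⟩
  have := hgm v v⁻¹
  rw [h0, zero_mul, mul_inv_cancel, hg1, mul_one] at this
  exact hne _ _ this.symm

/-- A normalisation: lifts multiplying by the pairing `b`. -/
structure Normed (e : A) (u : V → A) (b : V → V → ℂ) (w : V → A) : Prop where
  one : w 1 = e
  mul : ∀ v x, w v * w x = b v x • w (v * x)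
  mem : ∀ v, ∃ c : ℂ, c ≠ 0 ∧ w v = c • u v

theorem Twisted.exists_normed (h : Twisted e u f) (hodd : Odd (Fintype.card V)) :
    ∃ w, Normed e u (bb f) w := by
  have hb := h.bb_pairing
  obtain ⟨g, hg0, hg1, hg⟩ := exists_coboundary (fun v x => f v x / bb f v x)
    (fun v x => div_ne_zero (h.f_ne _ _) (hb.ne _ _))
    (fun v x => by
      rw [div_eq_div_iff (hb.ne _ _) (hb.ne _ _)]
      have h1 := h.bb_sq hodd v x
      rw [beta, eq_div_iff (h.f_ne x v)] at h1
      linear_combination (f x v * bb f v x) * hb.swap v x - bb f x v * h1)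
    (fun v => by rw [(h.f_one v).1, hb.one_left, div_one])
    (fun v x y => by
      rw [div_mul_div_comm, div_mul_div_comm, h.cocycle, hb.mul_left, hb.mul_right]
      congr 1
      ring)
  refine ⟨fun v => (g v)⁻¹ • u v, by simp only [hg1, inv_one, one_smul, h.one], fun v x => ?_,
    fun v => ⟨_, inv_ne_zero (hg0 v), rfl⟩⟩
  rw [smul_mul_assoc, mul_smul_comm, h.mul, smul_smul, smul_smul, smul_smul]
  congr 1
  have := hg v x
  rw [div_mul_eq_mul_div, eq_div_iff (hb.ne _ _)] at this
  field_simp [hg0 v, hg0 x, hg0 (v * x)]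
  linear_combination -this

/-- Two normalisations differ by a linear character. -/
theorem Normed.exists_hom (h : Twisted e u f) {b : V → V → ℂ} (hb : Pairing b) {w w' : V → A}
    (hw : Normed e u b w) (hw' : Normed e u b w') :
    ∃ l : V →* ℂˣ, ∀ v, w' v = (l v : ℂ) • w v := by
  choose c hc0 hc using hw.mem
  choose c' hc0' hc' using hw'.mem
  have hmul : ∀ v x, c v * c x * f v x = b v x * c (v * x) := fun v x => by
    have := hw.mul v x
    rw [hc v, hc x, hc (v * x), smul_mul_assoc, mul_smul_comm, h.mul, smul_smul, smul_smul,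
      smul_smul] at this
    exact h.cancel this
  have hmul' : ∀ v x, c' v * c' x * f v x = b v x * c' (v * x) := fun v x => by
    have := hw'.mul v x
    rw [hc' v, hc' x, hc' (v * x), smul_mul_assoc, mul_smul_comm, h.mul, smul_smul, smul_smul,
      smul_smul] at this
    exact h.cancel this
  refine ⟨MonoidHom.mk' (fun v => Units.mk0 (c' v / c v) (div_ne_zero (hc0' v) (hc0 v)))
    (fun v x => Units.ext ?_), fun v => ?_⟩
  · simp only [Units.val_mul, Units.val_mk0]
    rw [div_mul_div_comm, div_eq_div_iff (hc0 _) (mul_ne_zero (hc0 _) (hc0 _))]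
    refine mul_left_cancel₀ (hb.ne v x) ?_
    linear_combination (c' v * c' x) * hmul v x - (c v * c x) * hmul' v x
  · show w' v = (c' v / c v) • w v
    rw [hc', hc, smul_smul, div_mul_cancel₀ _ (hc0 v)]

/-- An algebra automorphism permuting the lines of a twisted system. -/
structure Moves (e : A) (u : V → A) (θ : A →ₐ[ℂ] A) (α : V ≃* V) : Prop where
  fix_e : θ e = e
  line : ∀ v, ∃ c : ℂ, c ≠ 0 ∧ θ (u v) = c • u (α v)

theorem Twisted.bb_moves (h : Twisted e u f) {θ : A →ₐ[ℂ] A} {α : V ≃* V} (hθ : Moves e u θ α)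
    (v w : V) : bb f (α v) (α w) = bb f v w := by
  obtain ⟨c, hc0, hc⟩ := hθ.line v
  obtain ⟨c', hc0', hc'⟩ := hθ.line w
  have := congrArg θ (h.comm v w)
  rw [map_smul, map_mul, map_mul, hc, hc', smul_mul_assoc, mul_smul_comm, smul_mul_assoc,
    mul_smul_comm, h.comm (α v) (α w), smul_smul, smul_smul, smul_smul, smul_smul,
    h.mul (α w) (α v), smul_smul, smul_smul] at this
  have h2 := h.cancel this
  have hb : beta f (α v) (α w) = beta f v w := by
    refine mul_left_cancel₀ (mul_ne_zero hc0 hc0') (mul_right_cancel₀ (h.f_ne (α w) (α v)) ?_)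
    linear_combination h2
  rw [bb, bb, hb]

theorem Normed.moved (h : Twisted e u f) {w : V → A} (hw : Normed e u (bb f) w)
    {θ : A →ₐ[ℂ] A} {α : V ≃* V} (hθ : Moves e u θ α) :
    Normed e u (bb f) (fun v => θ (w (α.symm v))) where
  one := by rw [map_one, hw.one, hθ.fix_e]
  mul v x := by
    rw [← map_mul, hw.mul, map_smul, ← map_mul α.symm]
    congr 1
    have := h.bb_moves hθ (α.symm v) (α.symm x)
    rw [α.apply_symm_apply, α.apply_symm_apply] at this
    exact this.symm
  mem v := by
    obtain ⟨c, hc0, hc⟩ := hw.mem (α.symm v)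
    obtain ⟨c', hc0', hc'⟩ := hθ.line (α.symm v)
    refine ⟨c * c', mul_ne_zero hc0 hc0', ?_⟩
    rw [hc, map_smul, hc', smul_smul, α.apply_symm_apply]

section Fixed

variable {S : Type*} [Group S] [Fintype S] {θ : S → A →ₐ[ℂ] A} {α : S → V ≃* V}

/-- A coprime group of movers fixes a normalisation. -/
theorem Twisted.exists_fixed (h : Twisted e u f) (hodd : Odd (Fintype.card V))
    (hm : ∀ s, Moves e u (θ s) (α s)) (hθ : ∀ s t a, θ (s * t) a = θ s (θ t a))
    (hα : ∀ s t v, α (s * t) v = α s (α t v))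
    (hco : (Fintype.card S).Coprime (Fintype.card V)) :
    ∃ w, Normed e u (bb f) w ∧ ∀ s v, θ s (w v) = w (α s v) := by
  obtain ⟨w, hw⟩ := h.exists_normed hodd
  choose l hl using fun s => hw.exists_hom h h.bb_pairing (hw.moved h (hm s))
  have hd : ∀ s v, θ s (w v) = (l s (α s v) : ℂ) • w (α s v) := fun s v => by
    have := hl s (α s v)
    rwa [(α s).symm_apply_apply] at this
  have hwne : ∀ v, w v ≠ 0 := fun v => by
    obtain ⟨c, hc0, hc⟩ := hw.mem v
    rw [hc]
    exact smul_ne_zero hc0 (h.ne_zero v)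
  have hcomp : ∀ s t v, l (s * t) (α (s * t) v) = l t (α t v) * l s (α (s * t) v) := fun s t v => by
    apply Units.ext
    refine smul_left_injective ℂ (hwne (α (s * t) v)) ?_
    show ((l (s * t) (α (s * t) v) : ℂˣ) : ℂ) • w (α (s * t) v) = _ • w (α (s * t) v)
    rw [← hd, hθ, hd, map_smul, hd, smul_smul, Units.val_mul, ← hα]
  let P : V → ℂˣ := fun v => ∏ t : S, l t (α t v)
  obtain ⟨m, hm'⟩ : ∃ m : ℤ, ∀ (s : S) (v : V), (l s v ^ Fintype.card S) ^ m = l s v := by
    refine ⟨Nat.gcdA (Fintype.card S) (Fintype.card V), fun s v => ?_⟩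
    have hN : l s v ^ Fintype.card V = 1 := by rw [← map_pow, pow_card_eq_one, map_one]
    have hg := Nat.gcd_eq_gcd_ab (Fintype.card S) (Fintype.card V)
    rw [hco] at hg
    conv_rhs => rw [← zpow_one (l s v), show (1 : ℤ) = ((1 : ℕ) : ℤ) from rfl, hg, zpow_add,
      zpow_mul, zpow_mul, zpow_natCast, zpow_natCast, hN, one_zpow, mul_one]
  refine ⟨fun v => ((P v ^ m)⁻¹ : ℂˣ).val • w v, ⟨?_, fun v x => ?_, fun v => ?_⟩, fun s v => ?_⟩
  · simp [P, hw.one]
  · simp only [smul_mul_assoc, mul_smul_comm, hw.mul, smul_smul]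
    congr 1
    simp only [P, map_mul, Finset.prod_mul_distrib, mul_zpow, mul_inv, Units.val_mul]
    ring
  · obtain ⟨c, hc0, hc⟩ := hw.mem v
    exact ⟨_ * c, mul_ne_zero (Units.ne_zero _) hc0, by rw [hc, smul_smul]⟩
  · show θ s (_ • w v) = _ • w (α s v)
    rw [map_smul, hd, smul_smul, ← Units.val_mul]
    congr 2
    have hPs : P v = P (α s v) * l s (α s v) ^ Fintype.card S := by
      rw [← Finset.card_univ, ← Finset.prod_const, ← Finset.prod_mul_distrib]
      refine (Fintype.prod_equiv (Equiv.mulRight s) _ _ fun t => ?_).symm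
      rw [Equiv.coe_mulRight, hcomp t s v, ← hα, mul_comm]
    rw [hPs, mul_zpow, hm', mul_inv, mul_assoc, inv_mul_cancel, mul_one]

/-- The fixed normalisation is unique. -/
theorem Twisted.fixed_unique (h : Twisted e u f) (hm : ∀ s, Moves e u (θ s) (α s))
    (hco : (Fintype.card S).Coprime (Fintype.card V)) (hnorm : ∀ v, ∏ s : S, α s v = 1)
    {w w' : V → A} (hw : Normed e u (bb f) w) (hw' : Normed e u (bb f) w')
    (hf : ∀ s v, θ s (w v) = w (α s v)) (hf' : ∀ s v, θ s (w' v) = w' (α s v)) : w' = w := by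
  obtain ⟨l, hl⟩ := hw.exists_hom h h.bb_pairing hw'
  have hinv : ∀ s v, l (α s v) = l v := fun s v => by
    apply Units.ext
    have h1 := hf' s v
    rw [hl v, map_smul, hf, hl (α s v)] at h1
    obtain ⟨c, hc0, hc⟩ := hw.mem (α s v)
    refine smul_left_injective ℂ ?_ h1.symm
    rw [hc]
    exact smul_ne_zero hc0 (h.ne_zero _)
  funext v
  have h1 : l v ^ Fintype.card S = 1 := by
    rw [← Finset.card_univ, ← Finset.prod_const, Finset.prod_congr rfl fun s _ => (hinv s v).symm,
      ← map_prod, hnorm, map_one]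
  have h2 : l v ^ Fintype.card V = 1 := by rw [← map_pow, pow_card_eq_one, map_one]
  have h3 : l v = 1 := by
    have := (pow_gcd_eq_one (a := l v)).2 ⟨h1, h2⟩
    rwa [hco, pow_one] at this
  rw [hl, h3, Units.val_one, one_smul]

end Fixed

section Parity

variable {b : V → V → ℂ} {w : V → A}

/-- The parity element. -/
def par (w : V → A) : A := ∑ v, w v

theorem Normed.par_mul (hb : Pairing b) (hw : Normed e u b w) (x : V) :
    par w * w x = w x⁻¹ * par w := by
  simp only [par, Finset.sum_mul, Finset.mul_sum, hw.mul]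
  refine Fintype.sum_equiv (Equiv.mulLeft (x * x)) _ _ fun v => ?_
  simp only [Equiv.coe_mulLeft]
  rw [show x⁻¹ * (x * x * v) = v * x by
    rw [← mul_assoc, ← mul_assoc, inv_mul_cancel, one_mul, mul_comm]]
  congr 1
  rw [hb.inv_left, hb.mul_left, hb.mul_left, hb.self, one_mul, one_mul]

open scoped Classical in
theorem Normed.par_sq (hb : Pairing b) (hw : Normed e u b w) :
    par w * par w = (Fintype.card V : ℂ) •
      ∑ r ∈ Finset.univ.filter (fun r => ∀ v, b v r = 1), w r := by
  simp only [par, Finset.sum_mul, Finset.mul_sum, hw.mul]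
  rw [Finset.sum_comm, Finset.sum_congr rfl fun v _ => Fintype.sum_equiv (Equiv.mulLeft v)
    (fun x => b v x • w (v * x)) (fun y => b v y • w y) (fun x => by
      simp only [Equiv.coe_mulLeft]
      rw [hb.mul_right v v x, hb.self, one_mul]), Finset.sum_comm, Finset.smul_sum, Finset.sum_filter]
  refine Finset.sum_congr rfl fun r _ => ?_
  rw [← Finset.sum_smul]
  split_ifs with hr
  · rw [Finset.sum_congr rfl fun v _ => hr v, Finset.sum_const, Finset.card_univ, nsmul_one]
  · push Not at hr
    obtain ⟨v₀, hv₀⟩ := hr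
    have hs : b v₀ r * ∑ v, b v r = ∑ v, b v r := by
      rw [Finset.mul_sum]
      exact Fintype.sum_equiv (Equiv.mulLeft v₀) _ _ fun v => (hb.mul_left v₀ v r).symm
    have : (b v₀ r - 1) * ∑ v, b v r = 0 := by rw [sub_mul, hs, one_mul, sub_self]
    rw [(mul_eq_zero.1 this).resolve_left (sub_ne_zero.2 hv₀), zero_smul]

theorem Normed.par_radical (hb : Pairing b) (hw : Normed e u b w) {r : V}
    (hr : ∀ v, b v r = 1) : par w * w r = par w := by
  simp only [par, Finset.sum_mul, hw.mul, hr, one_smul]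
  exact Fintype.sum_equiv (Equiv.mulRight r) _ _ fun v => rfl

open scoped Classical in
/-- The parity element cubed. -/
theorem Normed.par_cube (hb : Pairing b) (hw : Normed e u b w) :
    par w * (par w * par w) = ((Fintype.card V : ℂ) *
      (Finset.univ.filter (fun r : V => ∀ v, b v r = 1)).card) • par w := by
  rw [hw.par_sq hb, mul_smul_comm, Finset.mul_sum,
    Finset.sum_congr rfl fun r hr => hw.par_radical hb (Finset.mem_filter.1 hr).2,
    Finset.sum_const, ← Nat.cast_smul_eq_nsmul ℂ, smul_smul]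

end Parity

end Cfsg.Agent.Char.OddCorr
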