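import Cfsg.Agent.Lib.Char.OddCorr.Sec
import Cfsg.Agent.Lib.Char.OddCorr.Twist

/-!
# The fixed normalisation of the lines
-/

set_option autoImplicit false
set_option linter.unusedSectionVars false
set_option linter.style.haveILetI false

namespace Cfsg.Agent.Char.OddCorr

open Cfsg Module

universe u

variable {G : Type u} [Group G] [Fintype G] {L K C : Subgroup G} [L.Normal] [Fintype L]
  {S : Type*} [Group S] [Fintype S] {φ : IrrCharacter L} {σ : S →* MulAut G}

/-- The automorphism of the group algebra induced by one of the group. -/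
noncomputable def th (α : MulAut G) : Alg G →ₐ[ℂ] Alg G :=
  (MonoidAlgebra.domCongr ℂ ℂ α).toAlgHom

theorem th_el (α : MulAut G) (g : G) : th α (el g) = el (α g) := by
  simp [th, el]

theorem th_mul (α β : MulAut G) (a : Alg G) : th (α * β) a = th α (th β a) := by
  rw [sum_el a]
  simp [map_sum, map_smul, th_el]

theorem th_conj (g : G) (a : Alg G) : th (MulAut.conj g) a = el g * a * el g⁻¹ := by
  conv_lhs => rw [sum_el a]
  conv_rhs => rw [sum_el a]
  simp [map_sum, map_smul, th_el, Finset.mul_sum, Finset.sum_mul, el_mul]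

theorem tc_th (f : G → ℂ) (α : MulAut G) (a : Alg G) : tc f (th α a) = tc (fun g => f (α g)) a := by
  conv_lhs => rw [sum_el a]
  conv_rhs => rw [sum_el a]
  simp [map_sum, map_smul, th_el, tc_el]

theorem th_emb (α : MulAut G) (hα : ∀ l ∈ L, α l ∈ L) (f f' : L → ℂ)
    (hf : ∀ l : L, f' ⟨α l, hα l l.2⟩ = f l) : th α (emb L f) = emb L f' := by
  simp only [emb, LinearMap.coe_mk, AddHom.coe_mk, map_sum, map_smul, th_el]
  refine Fintype.sum_equiv (Equiv.ofBijective (fun l : L => (⟨α l, hα l l.2⟩ : L))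
    (Finite.injective_iff_bijective.1 fun a b h => Subtype.ext (α.injective (congrArg Subtype.val h))))
    _ _ fun l => ?_
  simp [hf]

theorem th_eL (α : MulAut G) (hα : ∀ l ∈ L, α l ∈ L)
    (hφ : ∀ l : L, (φ : L → ℂ) ⟨α l, hα l l.2⟩ = (φ : L → ℂ) l) : th α (eL L φ) = eL L φ :=
  th_emb α hα _ _ fun l => by simp only [idem, hφ]

theorem InZ.map (α : MulAut G) (hα : ∀ l ∈ L, α l ∈ L)
    (hφ : ∀ l : L, (φ : L → ℂ) ⟨α l, hα l l.2⟩ = (φ : L → ℂ) l) {k : G} {a : Alg G}
    (ha : InZ L φ k a) : InZ L φ (α k) (th α a) where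
  coset := by
    obtain ⟨f, rfl⟩ := ha.coset
    have hbij := (Finite.injective_iff_bijective.1 fun (a b : L)
      (h : (⟨α a, hα a a.2⟩ : L) = ⟨α b, hα b b.2⟩) =>
        Subtype.ext (α.injective (congrArg Subtype.val h)))
    refine ⟨fun l => f ((Equiv.ofBijective _ hbij).symm l), ?_⟩
    rw [map_mul, th_el, th_emb α hα f (fun l => f ((Equiv.ofBijective _ hbij).symm l))
      fun l => congrArg f ((Equiv.ofBijective _ hbij).symm_apply_apply l)]
  left := by rw [← th_eL α hα hφ, ← map_mul, ha.left]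
  right := by rw [← th_eL α hα hφ, ← map_mul, ha.right]
  comm l := by
    obtain ⟨l', hl'⟩ := (Finite.injective_iff_bijective.1 fun (a b : L)
      (h : (⟨α a, hα a a.2⟩ : L) = ⟨α b, hα b b.2⟩) =>
        Subtype.ext (α.injective (congrArg Subtype.val h))).2 l
    rw [← hl', ← th_el, ← map_mul, ha.comm, map_mul]

/-- `K` meets the stabiliser. -/
abbrev Qs (L K : Subgroup G) [L.Normal] [Fintype L] (φ : IrrCharacter L) : Subgroup G :=
  K ⊓ stab L φ

theorem Ctx.mapQ (hd : Ctx L K C φ σ) (s : S) : ∀ q ∈ Qs L K φ, σ s q ∈ Qs L K φ :=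
  fun q hq => ⟨hd.mapK s q hq.1, hd.map_stab s hq.2⟩

theorem Ctx.conjQ (hd : Ctx L K C φ σ) {g : G} (hg : g ∈ stab L φ) {q : G} (hq : q ∈ Qs L K φ) :
    g * q * g⁻¹ ∈ Qs L K φ :=
  ⟨hd.conjK g q hq.1, (stab L φ).mul_mem ((stab L φ).mul_mem hg hq.2) ((stab L φ).inv_mem hg)⟩

/-- Conjugation on the section. -/
noncomputable def secConj (hd : Ctx L K C φ σ) (g : stab L φ) :
    Sec L (Qs L K φ) ≃* Sec L (Qs L K φ) :=
  QuotientGroup.congr _ _
    ({ toFun := fun q => ⟨g * q * (g : G)⁻¹, hd.conjQ g.2 q.2⟩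
       invFun := fun q => ⟨(g : G)⁻¹ * q * g, by simpa using hd.conjQ (inv_mem g.2) q.2⟩
       left_inv := fun q => Subtype.ext (by group)
       right_inv := fun q => Subtype.ext (by group)
       map_mul' := fun a b => Subtype.ext (by simp) } : Qs L K φ ≃* Qs L K φ)
    (by
      ext x
      simp only [Subgroup.mem_map, Subgroup.mem_subgroupOf]
      constructor
      · rintro ⟨y, hy, rfl⟩
        exact Subgroup.Normal.conj_mem inferInstance _ hy _
      · intro hx
        refine ⟨⟨(g : G)⁻¹ * x * g, by simpa using hd.conjQ (inv_mem g.2) x.2⟩, ?_, ?_⟩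
        · simpa using Subgroup.Normal.conj_mem inferInstance _ hx (g : G)⁻¹
        · exact Subtype.ext (by simp [mul_assoc]))

theorem secConj_mk (hd : Ctx L K C φ σ) (g : stab L φ) (q : Qs L K φ) :
    secConj hd g (QuotientGroup.mk q) = QuotientGroup.mk ⟨g * q * (g : G)⁻¹, hd.conjQ g.2 q.2⟩ := rfl

theorem Ctx.card_sec (hd : Ctx L K C φ σ) (Q : Subgroup G) :
    Nat.card (Sec L Q) ∣ Fintype.card G := by
  rw [← Nat.card_eq_fintype_card]
  exact (Subgroup.card_quotient_dvd_card _).trans (Subgroup.card_subgroup_dvd_card Q)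

theorem Ctx.odd_sec (hd : Ctx L K C φ σ) (Q : Subgroup G) [Fintype (Sec L Q)] :
    Odd (Fintype.card (Sec L Q)) := by
  rw [← Nat.card_eq_fintype_card]
  exact hd.oddG.of_dvd_nat (hd.card_sec Q)

/-- The normalised lines, fixed by `S` and compatible with `C`. -/
theorem exists_lines (hd : Ctx L K C φ σ) [Fintype (Sec L (Qs L K φ))] :
    letI := hd.secGroup (Q := Qs L K φ) inf_le_left
    ∃ (b : Sec L (Qs L K φ) → Sec L (Qs L K φ) → ℂ) (w : Sec L (Qs L K φ) → Alg G),
      Pairing b ∧ w 1 = eL L φ ∧ (∀ v x, w v * w x = b v x • w (v * x)) ∧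
      (∀ q : Qs L K φ, InZ L φ (q : G) (w (QuotientGroup.mk q))) ∧
      (∀ s v, th (σ s) (w v) = w (secAct hd hd.mapQ s v)) ∧
      (∀ g : stab L φ, (g : G) ∈ L ⊔ C → ∀ v, th (MulAut.conj (g : G)) (w v) = w (secConj hd g v)) := by
  classical
  letI := hd.secGroup (Q := Qs L K φ) inf_le_left
  choose a₀ b₀ ha₀ hb₀ hab₀ hba₀ using fun v : (Sec L (Qs L K φ)) =>
    exists_unit L φ (k := ((Quotient.out v : Qs L K φ) : G)) (Quotient.out v).2.2
  have hcl : ∀ q q' : Qs L K φ, (QuotientGroup.mk q : (Sec L (Qs L K φ))) = QuotientGroup.mk q' →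
      (q' : G) * (q : G)⁻¹ ∈ L := fun q q' h => by
    rw [QuotientGroup.eq, Subgroup.mem_subgroupOf] at h
    simpa [mul_assoc] using Subgroup.Normal.conj_mem inferInstance _ h (q : G)
  have hout : ∀ q : Qs L K φ, (q : G) * (((Quotient.out (QuotientGroup.mk q : (Sec L (Qs L K φ)))) : Qs L K φ) : G)⁻¹ ∈ L :=
    fun q => hcl _ _ (QuotientGroup.out_eq' _)
  let a : (Sec L (Qs L K φ)) → Alg G := fun v => if v = 1 then eL L φ else a₀ v
  let a' : (Sec L (Qs L K φ)) → Alg G := fun v => if v = 1 then eL L φ else b₀ v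
  have h1 : ((Quotient.out (1 : (Sec L (Qs L K φ))) : Qs L K φ) : G) ∈ L := by
    simpa using inv_mem (hout 1)
  have hA : ∀ v : (Sec L (Qs L K φ)), InZ L φ ((Quotient.out v : Qs L K φ) : G) (a v) ∧
      InZ L φ ((Quotient.out v : Qs L K φ) : G)⁻¹ (a' v) ∧
      a v * a' v = eL L φ ∧ a' v * a v = eL L φ := by
    intro v
    by_cases hv : v = 1
    · subst hv
      simp only [a, a', if_pos]
      exact ⟨(eL_inZ L φ).coset_congr L φ (by simpa using h1),
        (eL_inZ L φ).coset_congr L φ (by simpa using inv_mem h1), eL_mul_self L φ, eL_mul_self L φ⟩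
    · simp only [a, a', if_neg hv]
      exact ⟨ha₀ v, hb₀ v, hab₀ v, hba₀ v⟩
  have haq : ∀ q : Qs L K φ, InZ L φ (q : G) (a (QuotientGroup.mk q)) := fun q =>
    (hA _).1.coset_congr L φ (hout q)
  have hline : ∀ (q : Qs L K φ) (x : Alg G), InZ L φ (q : G) x →
      ∃ c : ℂ, x = c • a (QuotientGroup.mk q) := fun q x hx => by
    obtain ⟨h1, h2, h3, h4⟩ := hA (QuotientGroup.mk q)
    refine (h1).exists_smul L φ h2 h4 (hx.coset_congr L φ ?_)
    simpa [mul_inv_rev] using inv_mem (hout q)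
  have hane : ∀ v, a v ≠ 0 := fun v h0 => eL_ne_zero L φ (by
    rw [← (hA v).2.2.1, h0, zero_mul])
  choose f hf using fun v x : (Sec L (Qs L K φ)) => hline (Quotient.out v * Quotient.out x) (a v * a x)
    ((hA v).1.mul L φ (hA x).1)
  have hmk : ∀ v x : (Sec L (Qs L K φ)),
      (QuotientGroup.mk (Quotient.out v * Quotient.out x) : (Sec L (Qs L K φ))) = v * x := fun v x => by
    rw [QuotientGroup.mk_mul, QuotientGroup.out_eq', QuotientGroup.out_eq']
  have htw : Twisted (eL L φ) a f :=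
    { e_ne := eL_ne_zero L φ
      f_ne := fun v x h0 => by
        have h := hf v x
        rw [h0, zero_smul] at h
        have := congrArg (fun z => a' v * z * a' x) h
        simp only [mul_zero, zero_mul, ← mul_assoc (a' v), (hA v).2.2.2] at this
        rw [(hA x).1.left, (hA x).2.2.1] at this
        exact eL_ne_zero L φ this
      one := by simp [a]
      left := fun v => (hA v).1.left
      right := fun v => (hA v).1.right
      mul := fun v x => by rw [hf v x, hmk] }
  have hmoves : ∀ (α : MulAut G) (αV : (Sec L (Qs L K φ)) ≃* (Sec L (Qs L K φ))) (hα : ∀ l ∈ L, α l ∈ L)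
      (hφ : ∀ l : L, (φ : L → ℂ) ⟨α l, hα l l.2⟩ = (φ : L → ℂ) l),
      (∀ q : Qs L K φ, ∃ q' : Qs L K φ, (q' : G) = α q ∧ αV (QuotientGroup.mk q) = QuotientGroup.mk q') →
      Moves (eL L φ) a (th α) αV := by
    intro α αV hα hφ hq
    refine ⟨th_eL α hα hφ, fun v => ?_⟩
    obtain ⟨q, rfl⟩ := QuotientGroup.mk_surjective v
    obtain ⟨q', hq', he⟩ := hq q
    have h := (haq q).map α hα hφ
    rw [← hq'] at h
    obtain ⟨c, hc⟩ := hline q' _ h
    refine ⟨c, fun h0 => hane (QuotientGroup.mk q) ?_, he ▸ hc⟩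
    rw [h0, zero_smul] at hc
    exact (MonoidAlgebra.domCongr ℂ ℂ α).injective (hc.trans (map_zero _).symm)
  have hmS : ∀ s, Moves (eL L φ) a (th (σ s)) (secAct hd hd.mapQ s) := fun s =>
    hmoves _ _ (hd.mapL s) (fun l => hd.inv s l _) fun q => ⟨_, rfl, secAct_mk hd hd.mapQ s q⟩
  have hco : (Fintype.card S).Coprime (Fintype.card (Sec L (Qs L K φ))) :=
    hd.co.coprime_dvd_right (by rw [← Nat.card_eq_fintype_card (α := (Sec L (Qs L K φ)))]; exact hd.card_sec _)
  obtain ⟨w, hw, hwS⟩ := htw.exists_fixed (θ := fun s => th (σ s)) (hd.odd_sec _) hmS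
    (fun s t x => by rw [map_mul]; exact th_mul _ _ x) (secAct_mul hd hd.mapQ) hco
  refine ⟨bb f, w, htw.bb_pairing, hw.one, hw.mul, fun q => ?_, hwS, fun g hg v => ?_⟩
  · obtain ⟨c, hc0, hc⟩ := hw.mem (QuotientGroup.mk q)
    rw [hc]
    obtain ⟨f', hf'⟩ := (haq q).coset
    exact ⟨⟨c • f', by rw [hf', map_smul, smul_mul_assoc]⟩,
      by rw [mul_smul_comm, (haq q).left], by rw [smul_mul_assoc, (haq q).right],
      fun l => by rw [mul_smul_comm, (haq q).comm, smul_mul_assoc]⟩
  have hmC : Moves (eL L φ) a (th (MulAut.conj (g : G))) (secConj hd g) :=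
    hmoves _ _ (fun l hl => Subgroup.Normal.conj_mem inferInstance l hl _)
      (fun l => by
        rw [← (mem_stab L φ).1 g.2 l]
        exact congrArg (φ : L → ℂ) (Subtype.ext (by simp)))
      fun q => ⟨_, rfl, secConj_mk hd g q⟩
  have hsame : ∀ s v, secAct hd hd.mapQ s (secConj hd g v) = secConj hd g (secAct hd hd.mapQ s v) ∧
      th (σ s) (th (MulAut.conj (g : G)) (w v)) = th (MulAut.conj (g : G)) (th (σ s) (w v)) := by
    intro s v
    obtain ⟨l, hl, c, hc, hlc⟩ := Subgroup.mem_sup_of_normal_left.1 hg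
    obtain ⟨q, rfl⟩ := QuotientGroup.mk_surjective v
    have hσg : σ s (g : G) * (g : G)⁻¹ ∈ L := by
      rw [← hlc, map_mul, hd.fixC s c hc, mul_inv_rev, mul_assoc, mul_inv_cancel_left]
      exact mul_mem (hd.mapL s l hl) (inv_mem hl)
    refine ⟨?_, ?_⟩
    · rw [secConj_mk, secAct_mk, secAct_mk, secConj_mk, QuotientGroup.eq, Subgroup.mem_subgroupOf]
      set x := σ s (g : G) * (g : G)⁻¹ with hx
      have e : σ s (g : G) = x * g := by rw [hx, inv_mul_cancel_right]
      show (σ s ((g : G) * q * (g : G)⁻¹))⁻¹ * ((g : G) * σ s q * (g : G)⁻¹) ∈ L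
      rw [map_mul, map_mul, map_inv, e]
      set y := (g : G) * σ s q * (g : G)⁻¹ with hy
      rw [show (x * g * σ s q * (x * g)⁻¹)⁻¹ * y = x * (y⁻¹ * x⁻¹ * y) by rw [hy]; group]
      exact mul_mem hσg (by simpa using Subgroup.Normal.conj_mem inferInstance _ (inv_mem hσg) y⁻¹)
    · rw [th_conj, th_conj, map_mul, map_mul, th_el, th_el, map_inv]
      set x := σ s (g : G) * (g : G)⁻¹ with hx
      have e : σ s (g : G) = x * g := by rw [hx, inv_mul_cancel_right]
      rw [e, hwS]
      obtain ⟨q', hq'⟩ := QuotientGroup.mk_surjective (secAct hd hd.mapQ s (QuotientGroup.mk q : (Sec L (Qs L K φ))))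
      rw [← hq']
      obtain ⟨c₁, -, hc₁⟩ := hw.mem (QuotientGroup.mk q' : (Sec L (Qs L K φ)))
      rw [hc₁]
      simp only [mul_smul_comm, smul_mul_assoc]
      congr 1
      have hgz := (haq q').map (MulAut.conj (g : G))
        (fun l hl => Subgroup.Normal.conj_mem inferInstance l hl _) (fun l => by
          rw [← (mem_stab L φ).1 g.2 l]
          exact congrArg (φ : L → ℂ) (Subtype.ext (by simp)))
      rw [th_conj] at hgz
      calc el (x * (g : G)) * a (QuotientGroup.mk q') * el (x * (g : G))⁻¹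
          = el x * (el (g : G) * a (QuotientGroup.mk q') * el (g : G)⁻¹) * el x⁻¹ := by
            rw [mul_inv_rev, el_mul x, el_mul (g : G)⁻¹]; simp only [mul_assoc]
        _ = el (g : G) * a (QuotientGroup.mk q') * el (g : G)⁻¹ := by
            rw [show el x * (el (g : G) * a (QuotientGroup.mk q') * el (g : G)⁻¹) = _ from hgz.comm ⟨x, hσg⟩,
              mul_assoc, ← el_mul, mul_inv_cancel, el_one, mul_one]
  have hfix := htw.fixed_unique (θ := fun s => th (σ s)) hmS hco
    (fun v => secAct_norm hd inf_le_left hd.mapQ v) hw (hw.moved htw hmC) hwS (fun s v => by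
      show th (σ s) (th _ (w ((secConj hd g).symm v))) =
        th _ (w ((secConj hd g).symm (secAct hd hd.mapQ s v)))
      rw [(hsame s _).2, hwS]
      congr 2
      apply (secConj hd g).injective
      rw [← (hsame s _).1, MulEquiv.apply_symm_apply, MulEquiv.apply_symm_apply])
  have := congrFun hfix (secConj hd g v)
  simpa using this

end Cfsg.Agent.Char.OddCorr
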