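import Cfsg.Agent.Lib.Char.OddCorr.Core
import Cfsg.Agent.Lib.Char.Clifford

/-!
# The odd correspondence for a coprime abelian section
-/

set_option autoImplicit false
set_option linter.unusedSectionVars false
set_option linter.style.haveILetI false

namespace Cfsg.Agent.Char.OddCorr

open Cfsg Module
open scoped Classical

universe u

variable {G : Type u} [Group G] [Fintype G] {L K C : Subgroup G} [L.Normal] [Fintype L]
  {S : Type*} [Group S] [Fintype S] {φ : IrrCharacter L} {σ : S →* MulAut G}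

/-- The hypotheses on the section, fixed points allowed. -/
structure Setup (L K C : Subgroup G) (σ : S →* MulAut G) : Prop where
  oddG : Odd (Fintype.card G)
  co : (Fintype.card S).Coprime (Fintype.card G)
  le : L ≤ K
  comm : ∀ a ∈ K, ∀ b ∈ K, a * b * a⁻¹ * b⁻¹ ∈ L
  conjK : ∀ g : G, ∀ k ∈ K, g * k * g⁻¹ ∈ K
  dec : ∀ g : G, ∃ k ∈ K, ∃ c ∈ C, g = k * c
  fixC : ∀ s, ∀ c ∈ C, σ s c = c
  mapK : ∀ s, ∀ k ∈ K, σ s k ∈ K
  mapL : ∀ s, ∀ l ∈ L, σ s l ∈ L
  lift : ∀ q ∈ K, (∀ s, q⁻¹ * σ s q ∈ L) → ∃ c ∈ C, q⁻¹ * c ∈ L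

/-- The part of `K / L` without fixed points. -/
theorem Setup.exists_free (h : Setup L K C σ) :
    ∃ K0 : Subgroup G, ∀ φ : IrrCharacter L,
      (∀ s, ∀ l : L, ∀ hl : σ s (l : G) ∈ L, (φ : L → ℂ) ⟨σ s l, hl⟩ = (φ : L → ℂ) l) →
      Ctx L K0 C φ σ := by
  haveI : (L.subgroupOf K).Normal := Subgroup.normal_subgroupOf
  letI : CommGroup (Sec L K) :=
    { (inferInstance : Group (Sec L K)) with
      mul_comm := by
        intro x y
        induction x using QuotientGroup.induction_on with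
        | _ a =>
          induction y using QuotientGroup.induction_on with
          | _ b =>
            rw [← QuotientGroup.mk_mul, ← QuotientGroup.mk_mul, QuotientGroup.eq,
              Subgroup.mem_subgroupOf]
            have := h.comm _ (inv_mem b.2) _ (inv_mem a.2)
            simpa [mul_assoc] using this }
  let r : S → (K →* K) := fun s =>
    { toFun := fun k => ⟨σ s k, h.mapK s k k.2⟩
      map_one' := Subtype.ext (map_one (σ s))
      map_mul' := fun a b => Subtype.ext (map_mul (σ s) _ _) }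
  let π : K →* Sec L K := QuotientGroup.mk' _
  let N : K →* Sec L K :=
    { toFun := fun k => ∏ s : S, π (r s k)
      map_one' := by simp
      map_mul' := fun a b => by simp [Finset.prod_mul_distrib] }
  have hπ : ∀ a b : K, π a = π b ↔ (a : G)⁻¹ * b ∈ L := fun a b => by
    show (QuotientGroup.mk a : Sec L K) = QuotientGroup.mk b ↔ _
    rw [QuotientGroup.eq, Subgroup.mem_subgroupOf]
    rfl
  have hr : ∀ (t s : S) (k : K), r t (r s k) = r (t * s) k := fun t s k => Subtype.ext (by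
    show σ t (σ s (k : G)) = σ (t * s) k
    rw [map_mul]
    rfl)
  have hπr : ∀ (t : S) (a b : K), π a = π b → π (r t a) = π (r t b) := fun t a b he => by
    rw [hπ] at he ⊢
    have := h.mapL t _ he
    rwa [map_mul, map_inv] at this
  have hNr : ∀ (t : S) (k : K), N (r t k) = N k := fun t k =>
    Fintype.prod_equiv (Equiv.mulRight t) _ _ fun s => by rw [hr]; rfl
  have hco : ∀ x : Sec L K, x ^ Fintype.card S = 1 → x = 1 := fun x hx => by
    have h1 : orderOf x ∣ Fintype.card G := by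
      obtain ⟨k, rfl⟩ := QuotientGroup.mk'_surjective (L.subgroupOf K) x
      refine (orderOf_map_dvd (QuotientGroup.mk' (L.subgroupOf K)) k).trans ?_
      rw [← Subgroup.orderOf_coe, ← Nat.card_eq_fintype_card]
      exact orderOf_dvd_natCard (k : G)
    rw [← orderOf_eq_one_iff]
    exact Nat.eq_one_of_dvd_coprimes h.co (orderOf_dvd_of_pow_eq_one hx) h1
  have hNfix : ∀ k : K, (∀ s, π (r s k) = π k) → N k = π k ^ Fintype.card S := fun k hk => by
    show ∏ s : S, π (r s k) = _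
    rw [Finset.prod_congr rfl fun s _ => hk s, Finset.prod_const, Finset.card_univ]
  have hmemK : ∀ {g : G}, g ∈ N.ker.map K.subtype → g ∈ K := fun hg => by
    obtain ⟨k, -, rfl⟩ := hg
    exact k.2
  have hmem : ∀ (g : G) (hg : g ∈ K), g ∈ N.ker.map K.subtype ↔ N ⟨g, hg⟩ = 1 := fun g hg => by
    constructor
    · rintro ⟨k, hk, rfl⟩
      exact hk
    · exact fun he => ⟨⟨g, hg⟩, he, rfl⟩
  refine ⟨N.ker.map K.subtype, fun φ hφ => ?_⟩
  refine
    { oddG := h.oddG, co := h.co, fixC := h.fixC, mapL := h.mapL, inv := hφ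
      le := fun l hl => ?_
      comm := fun a ha b hb => h.comm a (hmemK ha) b (hmemK hb)
      conjK := fun g k hk => ?_
      dec := fun g => ?_
      mapK := fun s k hk => ?_
      free := fun k hk hfix => ?_ }
  · rw [hmem l (h.le hl)]
    refine Finset.prod_eq_one fun s _ => ?_
    refine (QuotientGroup.eq_one_iff _).2 (Subgroup.mem_subgroupOf.2 ?_)
    exact h.mapL s l hl
  · have hkK := hmemK hk
    obtain ⟨k₁, hk₁, c, hc, rfl⟩ := h.dec g
    rw [hmem _ (h.conjK _ _ hkK)]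
    rw [hmem _ hkK] at hk
    -- conjugation by `c` commutes with the action, by `k₁` is trivial on the section
    have h1 : π ⟨k₁ * c * k * (k₁ * c)⁻¹, h.conjK _ _ hkK⟩ = π ⟨c * k * c⁻¹, h.conjK _ _ hkK⟩ := by
      rw [hπ]
      have hm : (c * k * c⁻¹ : G) ∈ K := h.conjK _ _ hkK
      have := h.comm _ hk₁ _ (inv_mem hm)
      show (k₁ * c * k * (k₁ * c)⁻¹)⁻¹ * (c * k * c⁻¹) ∈ L
      convert this using 1
      group
    show ∏ s : S, π (r s _) = 1
    rw [Finset.prod_congr rfl fun s _ => hπr s _ _ h1]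
    have hcj : ∀ s, (π (r s ⟨c * k * c⁻¹, h.conjK _ _ hkK⟩)) =
        π ⟨c * (r s ⟨k, hkK⟩ : G) * c⁻¹, h.conjK _ _ (r s ⟨k, hkK⟩).2⟩ := fun s =>
      congrArg π (Subtype.ext (by
        show σ s (c * k * c⁻¹) = c * σ s k * c⁻¹
        rw [map_mul, map_mul, map_inv, h.fixC s c hc]))
    rw [Finset.prod_congr rfl fun s _ => hcj s]
    let cj : K →* K :=
      { toFun := fun a => ⟨c * a * c⁻¹, h.conjK _ _ a.2⟩
        map_one' := Subtype.ext (by simp)
        map_mul' := fun a b => Subtype.ext (by simp [mul_assoc]) }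
    have hcl : L.subgroupOf K ≤ (L.subgroupOf K).comap cj := fun a ha =>
      Subgroup.mem_subgroupOf.2 ((inferInstance : L.Normal).conj_mem _
        (Subgroup.mem_subgroupOf.1 ha) c)
    have := congrArg (QuotientGroup.map _ _ cj hcl) hk
    rw [map_one] at this
    rw [← this]
    show _ = QuotientGroup.map _ _ cj hcl (∏ s : S, π (r s ⟨k, hkK⟩))
    rw [map_prod]
    rfl
  · obtain ⟨k, hk, c, hc, rfl⟩ := h.dec g
    obtain ⟨j, hj⟩ : ∃ j, (N ⟨k, hk⟩ ^ Fintype.card S) ^ j = N ⟨k, hk⟩ :=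
      exists_pow_eq_self_of_coprime (x := N ⟨k, hk⟩) (n := Fintype.card S) (by
        refine Nat.Coprime.coprime_dvd_right ?_ h.co
        obtain ⟨q, hq⟩ := QuotientGroup.mk'_surjective (L.subgroupOf K) (N ⟨k, hk⟩)
        rw [← hq]
        refine (orderOf_map_dvd (QuotientGroup.mk' (L.subgroupOf K)) q).trans ?_
        rw [← Subgroup.orderOf_coe, ← Nat.card_eq_fintype_card]
        exact orderOf_dvd_natCard (q : G))
    obtain ⟨q, hq⟩ := QuotientGroup.mk'_surjective (L.subgroupOf K) (N ⟨k, hk⟩ ^ j)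
    have hNkfix : ∀ t, ∀ a : K, π a = N ⟨k, hk⟩ → π (r t a) = π a := fun t a ha => by
      let rt : Sec L K →* Sec L K := QuotientGroup.map _ _ (r t) fun x hx =>
        Subgroup.mem_subgroupOf.2 (h.mapL t _ (Subgroup.mem_subgroupOf.1 hx))
      show rt (π a) = π a
      rw [ha]
      show rt (∏ s : S, π (r s ⟨k, hk⟩)) = ∏ s : S, π (r s ⟨k, hk⟩)
      rw [map_prod]
      exact Fintype.prod_equiv (Equiv.mulLeft t) _ _ fun s => congrArg π (hr t s _)
    obtain ⟨a₀, ha₀⟩ := QuotientGroup.mk'_surjective (L.subgroupOf K) (N ⟨k, hk⟩)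
    have hqfix : ∀ t, π (r t q) = π q := fun t => by
      have h1 : π q = π (a₀ ^ j) := by rw [map_pow]; exact hq.trans (by rw [← ha₀])
      rw [hπr t _ _ h1, map_pow, map_pow, hNkfix t a₀ ha₀, ← map_pow, h1]
    obtain ⟨d, hd, hqd⟩ := h.lift q q.2 fun s => (hπ _ _).1 (hqfix s).symm
    have hdK : d ∈ K := by
      have := mul_mem q.2 (h.le hqd)
      rwa [mul_inv_cancel_left] at this
    refine ⟨k * d⁻¹, ?_, d * c, mul_mem hd hc, by group⟩
    rw [hmem _ (mul_mem hk (inv_mem hdK))]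
    have h2 : π ⟨d, hdK⟩ = π q := ((hπ q ⟨d, hdK⟩).2 hqd).symm
    have h3 : N ⟨d, hdK⟩ = N ⟨k, hk⟩ := by
      rw [hNfix _ fun s => by rw [hπr s _ _ h2, hqfix s, h2], h2]
      show π q ^ _ = _
      rw [show π q = N ⟨k, hk⟩ ^ j from hq, ← pow_mul, mul_comm, pow_mul, hj]
    show N (⟨k, hk⟩ * ⟨d, hdK⟩⁻¹) = 1
    rw [map_mul, map_inv, h3, mul_inv_cancel]
  · have hkK := hmemK hk
    rw [hmem _ (h.mapK s k hkK)]
    rw [hmem _ hkK] at hk
    exact (hNr s ⟨k, hkK⟩).trans hk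
  · have hkK := hmemK hk
    rw [hmem _ hkK] at hk
    rw [hNfix ⟨k, hkK⟩ fun s => ((hπ ⟨k, hkK⟩ (r s ⟨k, hkK⟩)).2 (hfix s)).symm] at hk
    have := hco _ hk
    exact Subgroup.mem_subgroupOf.1 ((QuotientGroup.eq_one_iff _).1 this)

/-- Invariant characters of `G`. -/
def InvG (σ : S →* MulAut G) (χ : IrrCharacter G) : Prop :=
  ∀ s g, (χ : G → ℂ) (σ s g) = (χ : G → ℂ) g

/-- Invariant characters of `L ⊔ C`. -/
def InvH (σ : S →* MulAut G) (ψ : IrrCharacter ↥(L ⊔ C)) : Prop :=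
  ∀ s, ∀ x y : ↥(L ⊔ C), (y : G) = σ s x → (ψ : ↥(L ⊔ C) → ℂ) y = (ψ : ↥(L ⊔ C) → ℂ) x

/-- Invariant characters of `L`. -/
def InvL (σ : S →* MulAut G) (φ : IrrCharacter L) : Prop :=
  ∀ s, ∀ l : L, ∀ hl : σ s (l : G) ∈ L, (φ : L → ℂ) ⟨σ s l, hl⟩ = (φ : L → ℂ) l

/-- Invariant constituents are conjugate under `C`. -/
theorem exists_conj (hd : Ctx L K C φ σ) {φ' : IrrCharacter L} (hφ' : InvL σ φ')
    {χ : IrrCharacter G} (h1 : classInner (fun l : L => (χ : G → ℂ) l) (φ : L → ℂ) ≠ 0)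
    (h2 : classInner (fun l : L => (χ : G → ℂ) l) (φ' : L → ℂ) ≠ 0) :
    ∃ c ∈ C, ∀ l : L, (φ' : L → ℂ) l = (φ : L → ℂ) (MulAut.conjNormal c l) := by
  obtain ⟨g, hg⟩ := mem_cliffOrbit.1 (mem_cliffOrbit_of_constituent h1 h2)
  obtain ⟨k, hk, c, hc, rfl⟩ := hd.dec g
  have hval : ∀ l : L, (φ' : L → ℂ) l = (φ : L → ℂ) (MulAut.conjNormal (k * c) l) := fun l => by
    rw [← hg, irrComp_apply]
  have hkT : k ∈ stab L φ := by
    refine hd.mem_stab_of_diff hk fun s => ?_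
    have hsk : ∀ l : L, (φ : L → ℂ) (MulAut.conjNormal (σ s k * c) l) =
        (φ : L → ℂ) (MulAut.conjNormal (k * c) l) := by
      intro l
      have hl : σ s⁻¹ (l : G) ∈ L := hd.mapL _ _ l.2
      rw [← hval l, ← hφ' s⁻¹ l hl, hval]
      have hm : σ s⁻¹ ((MulAut.conjNormal (σ s k * c) l : L) : G) ∈ L :=
        hd.mapL _ _ (SetLike.coe_mem _)
      rw [← hd.inv s⁻¹ _ hm]
      refine congrArg (φ : L → ℂ) (Subtype.ext ?_)
      have hkk : σ s⁻¹ (σ s k) = k := by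
        rw [← MulAut.mul_apply, ← map_mul, inv_mul_cancel, map_one, MulAut.one_apply]
      show σ s⁻¹ ((MulAut.conjNormal (σ s k * c) l : L) : G) =
        ((MulAut.conjNormal (k * c) (⟨σ s⁻¹ (l : G), hl⟩ : L) : L) : G)
      rw [MulAut.conjNormal_apply, MulAut.conjNormal_apply, map_mul, map_mul, map_inv (σ s⁻¹),
        map_mul, hkk, hd.fixC s⁻¹ c hc]
    rw [mem_stab]
    intro l
    have := hsk (MulAut.conjNormal (k * c)⁻¹ l)
    rw [← MulAut.mul_apply, ← MulAut.mul_apply, ← map_mul, ← map_mul, mul_inv_cancel, map_one,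
      MulAut.one_apply] at this
    rw [← this]
    congr 2
    group
  refine ⟨c, hc, fun l => ?_⟩
  rw [hval, map_mul, MulAut.mul_apply]
  exact (mem_stab L φ).1 hkT _

variable [Fintype ↥(L ⊔ C)]

/-- Lying over a conjugate under `C`. -/
theorem OverH.of_conj {φ' : IrrCharacter L} {c : G} (hc : c ∈ C)
    (he : ∀ l : L, (φ' : L → ℂ) l = (φ : L → ℂ) (MulAut.conjNormal c l))
    {ψ : IrrCharacter ↥(L ⊔ C)} (h : OverH φ' ψ) : OverH φ ψ := by
  refine fun h0 => h (Eq.trans ?_ h0)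
  simp only [classInner]
  congr 1
  refine Fintype.sum_equiv (MulAut.conjNormal c : MulAut L).toEquiv _ _ fun l => ?_
  simp only [MulEquiv.toEquiv_eq_coe, MulEquiv.coe_toEquiv]
  rw [he]
  congr 1
  have := isClassFunction_character (irr_isCharacter ψ.2)
    ⟨l, Subgroup.mem_sup_left l.2⟩ ⟨c, Subgroup.mem_sup_right hc⟩
  rw [← this]
  rfl

/-- Constituents of a constituent. -/
theorem below_of_mult {χ : IrrCharacter G} {ψ : IrrCharacter ↥(L ⊔ C)} {φ' : IrrCharacter L}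
    {n : ℕ} (hn : mult χ ψ = n) (hn0 : n ≠ 0) (h : OverH φ' ψ) :
    classInner (fun l : L => (χ : G → ℂ) l) (φ' : L → ℂ) ≠ 0 := by
  obtain ⟨m, hm⟩ := exists_decomposition
    (isCharacter_comp (L ⊔ C).subtype (irr_isCharacter χ.2))
  have hmn : m ψ = n := by
    have := decomposition_coeff m hm ψ
    exact_mod_cast this.symm.trans hn
  have hval : ∀ x : ↥(L ⊔ C), (χ : G → ℂ) x =
      ∑ ξ : IrrCharacter ↥(L ⊔ C), (m ξ : ℂ) * (ξ : ↥(L ⊔ C) → ℂ) x := fun x => by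
    have := congrFun hm x
    simpa [Finset.sum_apply] using this
  let iL : L →* ↥(L ⊔ C) := Subgroup.inclusion le_sup_left
  choose p hp using fun ξ : IrrCharacter ↥(L ⊔ C) =>
    classInner_natCast (isCharacter_comp iL (irr_isCharacter ξ.2)) (irr_isCharacter φ'.2)
  have heq : classInner (fun l : L => (χ : G → ℂ) l) (φ' : L → ℂ) = ((∑ ξ, m ξ * p ξ : ℕ) : ℂ) := by
    push_cast
    rw [show (fun l : L => (χ : G → ℂ) l) = ∑ ξ : IrrCharacter ↥(L ⊔ C), (m ξ : ℂ) •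
        fun l : L => (ξ : ↥(L ⊔ C) → ℂ) (iL l) from funext fun l => by
          rw [Finset.sum_apply]
          exact hval (iL l),
      classInner_sum_left]
    exact Finset.sum_congr rfl fun ξ _ => by rw [classInner_smul_left]; exact congrArg _ (hp ξ)
  have hpψ : p ψ ≠ 0 := fun h0 => h (by
    refine (hp ψ).trans ?_
    rw [h0, Nat.cast_zero])
  rw [heq, Nat.cast_ne_zero]
  refine (lt_of_lt_of_le (Nat.pos_of_ne_zero (mul_ne_zero (hmn ▸ hn0) hpψ))
    (Finset.single_le_sum (f := fun ξ => m ξ * p ξ) (fun _ _ => Nat.zero_le _)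
      (Finset.mem_univ ψ))).ne'

/-- The correspondence. -/
theorem main (h : Setup L K C σ)
    (hG : ∀ χ : IrrCharacter G, InvG σ χ →
      ∃ φ : IrrCharacter L, classInner (fun l : L => (χ : G → ℂ) l) (φ : L → ℂ) ≠ 0 ∧ InvL σ φ)
    (hH : ∀ ψ : IrrCharacter ↥(L ⊔ C), InvH σ ψ → ∃ φ : IrrCharacter L, OverH φ ψ ∧ InvL σ φ) :
    (∀ χ : IrrCharacter G, InvG σ χ → ∃! ψ : IrrCharacter ↥(L ⊔ C),
      InvH σ ψ ∧ ∃ m : ℕ, mult χ ψ = m ∧ Odd m) ∧
    (∀ χ χ' : IrrCharacter G, InvG σ χ → InvG σ χ' → ∀ ψ : IrrCharacter ↥(L ⊔ C), InvH σ ψ →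
      ∀ m m' : ℕ, mult χ ψ = m → Odd m → mult χ' ψ = m' → Odd m' → χ = χ') ∧
    (∀ ψ : IrrCharacter ↥(L ⊔ C), InvH σ ψ → ∃ χ : IrrCharacter G, InvG σ χ ∧
      ∃ m : ℕ, mult χ ψ = m ∧ Odd m) := by
  obtain ⟨K0, hK0⟩ := h.exists_free
  have hnat : ∀ (χ : IrrCharacter G) (ψ : IrrCharacter ↥(L ⊔ C)), ∃ n : ℕ, mult χ ψ = n :=
    fun χ ψ => classInner_natCast (isCharacter_comp (L ⊔ C).subtype (irr_isCharacter χ.2))
      (irr_isCharacter ψ.2)
  refine ⟨fun χ hχ => ?_, fun χ χ' hχ hχ' ψ hψ m m' hm hodd hm' hodd' => ?_, fun ψ hψ => ?_⟩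
  · obtain ⟨φ, hφ, hφi⟩ := hG χ hχ
    have hd := hK0 φ hφi
    obtain ⟨ψ, hψo, hψi, hpar⟩ := (correspondence hd).1 χ hφ hχ
    obtain ⟨n, hn⟩ := hnat χ ψ
    refine ⟨ψ, ⟨hψi, n, hn, (hpar ψ hψo n hn).2 rfl⟩, fun ψ' ⟨hψ'i, n', hn', hodd'⟩ => ?_⟩
    obtain ⟨φ', hφ'o, hφ'i⟩ := hH ψ' hψ'i
    obtain ⟨c, hc, hcv⟩ := exists_conj hd hφ'i hφ (below_of_mult hn' hodd'.pos.ne' hφ'o)
    exact (hpar ψ' (OverH.of_conj hc hcv hφ'o) n' hn').1 hodd'
  · obtain ⟨φ, hφo, hφi⟩ := hH ψ hψ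
    exact (correspondence (hK0 φ hφi)).2.1 χ χ' (below_of_mult hm hodd.pos.ne' hφo)
      (below_of_mult hm' hodd'.pos.ne' hφo) hχ hχ' ψ hφo m m' hm hodd hm' hodd'
  · obtain ⟨φ, hφo, hφi⟩ := hH ψ hψ
    exact (correspondence (hK0 φ hφi)).2.2 ψ hφo hψ

end Cfsg.Agent.Char.OddCorr
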