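import Cfsg.Agent.Lib.Char.OddCorr.Lines

/-!
# The parity element of an odd abelian section
-/

set_option autoImplicit false
set_option linter.unusedSectionVars false
set_option linter.style.haveILetI false

namespace Cfsg.Agent.Char.OddCorr

open Cfsg Module
open scoped Classical

universe u

variable {G : Type u} [Group G] [Fintype G] {L K C : Subgroup G} [L.Normal] [Fintype L]
  {S : Type*} [Group S] [Fintype S] {φ : IrrCharacter L} {σ : S →* MulAut G}

/-- The group on which the parity element is centralised. -/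
abbrev Ps (L C : Subgroup G) [L.Normal] [Fintype L] (φ : IrrCharacter L) : Subgroup G :=
  (L ⊔ C) ⊓ stab L φ

/-- An element of the corner commuting with the stabiliser is a scalar on each character. -/
theorem corner_scalar (χ : IrrCharacter G) {a : Alg G} (hl : eL L φ * a = a) (hr : a * eL L φ = a)
    (hc : ∀ g ∈ stab L φ, el g * a = a * el g) {b : Alg G} (hb : eL L φ * b * eL L φ = b) :
    (χ : G → ℂ) 1 * ((Fintype.card (stab L φ) : ℂ) * tc (χ : G → ℂ) (b * a)) =
      (Fintype.card G : ℂ) * tc (χ : G → ℂ) a * tc (χ : G → ℂ) b := by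
  set e := eL L φ
  set Z : Alg G := ∑ g : G, el g * a * el g⁻¹ with hZ
  have hcl := isClassFunction_character (irr_isCharacter χ.2)
  have hcent : ∀ g : G, el g * Z = Z * el g := fun g => by
    simp only [hZ, Finset.mul_sum, Finset.sum_mul]
    refine Fintype.sum_equiv (Equiv.mulLeft g) _ _ fun x => ?_
    simp only [Equiv.coe_mulLeft, mul_inv_rev, el_mul, mul_assoc]
    rw [← el_mul g⁻¹ g, inv_mul_cancel, el_one, mul_one]
  have h := tc_mul_central χ hcent b
  have hZt : tc (χ : G → ℂ) Z = (Fintype.card G : ℂ) * tc (χ : G → ℂ) a := by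
    rw [hZ, map_sum, Finset.sum_congr rfl fun g _ => (show
      tc (χ : G → ℂ) (el g * a * el g⁻¹) = tc (χ : G → ℂ) a by
        rw [tc_comm hcl, ← mul_assoc, ← el_mul, inv_mul_cancel, el_one, one_mul]),
      Finset.sum_const, Finset.card_univ, nsmul_eq_mul]
  have heZ : e * Z * e = (Fintype.card (stab L φ) : ℂ) • a := by
    simp only [hZ, Finset.mul_sum, Finset.sum_mul]
    have : ∀ g : G, e * (el g * a * el g⁻¹) * e = if g ∈ stab L φ then a else 0 := by
      intro g
      split_ifs with hg
      · rw [hc g hg, mul_assoc a, ← el_mul, mul_inv_cancel, el_one, mul_one, hl, hr]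
      · rw [← hl, ← mul_assoc e, ← mul_assoc e, ← mul_assoc (e * el g), eL_el_eL L φ hg,
          zero_mul, zero_mul, zero_mul]
    rw [Finset.sum_congr rfl fun g _ => this g, ← Finset.sum_filter, Finset.sum_const,
      ← Nat.cast_smul_eq_nsmul ℂ, Fintype.card_subtype]
  rw [hZt] at h
  rw [← h]
  congr 1
  have : tc (χ : G → ℂ) (b * Z) = tc (χ : G → ℂ) (b * (e * Z * e)) := by
    conv_lhs => rw [← hb]
    rw [show e * b * e * Z = e * (b * e * Z) by simp only [mul_assoc], tc_comm hcl]
    simp only [mul_assoc]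
  rw [this, heZ, mul_smul_comm, map_smul, smul_eq_mul]

/-- The order of the stabiliser. -/
theorem card_stab (χ : IrrCharacter G) (hχ : tc (χ : G → ℂ) (eL L φ) ≠ 0) :
    (χ : G → ℂ) 1 * (Fintype.card (stab L φ) : ℂ) =
      (Fintype.card G : ℂ) * tc (χ : G → ℂ) (eL L φ) := by
  have h := corner_scalar χ (eL_mul_self L φ) (eL_mul_self L φ)
    (fun g hg => el_eL_comm L φ hg) (b := eL L φ) (by rw [eL_mul_self, eL_mul_self])
  rw [eL_mul_self] at h
  refine mul_right_cancel₀ hχ ?_
  linear_combination h

/-- The Casimir move inside `L`. -/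
theorem casimir (A B : Alg G → ℂ) (hA : ∀ (c : L → ℂ) (x : L → Alg G),
      A (∑ l, c l • x l) = ∑ l, c l * A (x l))
    (hB : ∀ (c : L → ℂ) (x : L → Alg G), B (∑ l, c l • x l) = ∑ l, c l * B (x l))
    (f : L → ℂ) (z : Alg G) :
    ∑ l : L, A (el (l : G) * emb L f) * B (z * el (l : G)⁻¹) =
      ∑ l : L, A (el (l : G)) * B (z * emb L f * el (l : G)⁻¹) := by
  simp only [emb, LinearMap.coe_mk, AddHom.coe_mk, Finset.mul_sum, Finset.sum_mul, mul_smul_comm,
    smul_mul_assoc, hA, hB]
  rw [Finset.sum_comm]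
  conv_rhs => rw [Finset.sum_comm]
  refine Finset.sum_congr rfl fun x _ => Fintype.sum_equiv (Equiv.mulRight x) _ _ fun l => ?_
  simp only [Equiv.coe_mulRight, Subgroup.coe_mul, mul_inv_rev, el_mul, mul_assoc]
  rw [← mul_assoc (el (x : G)) (el (x : G)⁻¹), ← el_mul (x : G) (x : G)⁻¹, mul_inv_cancel,
    el_one, one_mul]
  ring

/-- What is used about a parity element. -/
structure IsParity (L K C : Subgroup G) [L.Normal] [Fintype L] (φ : IrrCharacter L)
    (σ : S →* MulAut G) (J : Alg G) (N M : ℕ) : Prop where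
  M_ne : M ≠ 0
  N_ne : N ≠ 0
  left : eL L φ * J = J
  right : J * eL L φ = J
  cube : J * (J * J) = (M : ℂ) • J
  comm : ∀ h ∈ Ps L C φ, el h * J = J * el h
  move : ∀ s, th (σ s) J = J
  card : N * Fintype.card (Ps L C φ) = Fintype.card (stab L φ)
  trace : ∀ χ χ' : IrrCharacter G,
    (N : ℂ) * ∑ h : Ps L C φ, tc (χ : G → ℂ) (el (h : G) * J) * tc (χ' : G → ℂ) (el (h : G)⁻¹ * J) =
      (if χ = χ' then (Nat.card G : ℂ) / (χ : G → ℂ) 1 else 0) * tc (χ : G → ℂ) (J * J)
  reg : ∀ h ∈ L ⊔ C, (el h * J).coeff 1 = (el h * eL L φ).coeff 1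
  nonvanish : ∀ χ : IrrCharacter G, tc (χ : G → ℂ) (eL L φ) ≠ 0 →
    (∀ s g, (χ : G → ℂ) (σ s g) = (χ : G → ℂ) g) → tc (χ : G → ℂ) (J * J) ≠ 0

theorem secConj_mul (hd : Ctx L K C φ σ) (g g' : stab L φ) (v : Sec L (Qs L K φ)) :
    secConj hd (g * g') v = secConj hd g (secConj hd g' v) := by
  induction v using QuotientGroup.induction_on with
  | _ q =>
    rw [secConj_mk, secConj_mk, secConj_mk]
    congr 1
    exact Subtype.ext (by simp [mul_assoc])

theorem secConj_one (hd : Ctx L K C φ σ) (v : Sec L (Qs L K φ)) : secConj hd 1 v = v := by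
  induction v using QuotientGroup.induction_on with
  | _ q => rw [secConj_mk]; congr 1; exact Subtype.ext (by simp)

theorem el_comm_emb {J : Alg G} (hJ : ∀ l : L, el (l : G) * J = J * el (l : G)) (f : L → ℂ) :
    emb L f * J = J * emb L f := by
  simp only [emb, LinearMap.coe_mk, AddHom.coe_mk, Finset.sum_mul, Finset.mul_sum, smul_mul_assoc,
    mul_smul_comm, hJ]

set_option maxHeartbeats 800000 in
theorem exists_parity (hd : Ctx L K C φ σ) : ∃ J N M, IsParity L K C φ σ J N M := by
  haveI : Fintype (Sec L (Qs L K φ)) := Fintype.ofFinite _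
  letI := hd.secGroup (Q := Qs L K φ) inf_le_left
  obtain ⟨b, w, hb, hw1, hwmul, hwZ, hwS, hwC⟩ := exists_lines hd
  let R : Subgroup (Sec L (Qs L K φ)) :=
    { carrier := {r | ∀ v, b v r = 1}
      one_mem' := fun v => hb.one_right v
      mul_mem' := fun {x y} hx hy v => by rw [hb.mul_right, hx, hy, mul_one]
      inv_mem' := fun {x} hx v => by
        have := hb.mul_right v x⁻¹ x
        rw [inv_mul_cancel, hb.one_right, hx, mul_one] at this
        exact this.symm }
  set e := eL L φ with he
  set N := Fintype.card (Sec L (Qs L K φ)) with hN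
  have hn : Normed e w b w := ⟨hw1, hwmul, fun v => ⟨1, one_ne_zero, (one_smul ℂ _).symm⟩⟩
  set J := par w with hJ
  have hbinv' : ∀ v, b v v⁻¹ = 1 := fun v => by
    have := hb.mul_right v v v⁻¹
    rwa [mul_inv_cancel, hb.one_right, hb.self, one_mul, eq_comm] at this
  have hwl : ∀ v, e * w v = w v := fun v => by
    obtain ⟨q, rfl⟩ := QuotientGroup.mk_surjective v
    exact (hwZ q).left
  have hwr : ∀ v, w v * e = w v := fun v => by
    obtain ⟨q, rfl⟩ := QuotientGroup.mk_surjective v
    exact (hwZ q).right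
  have hwne : ∀ v, w v ≠ 0 := fun v h0 => by
    have := hwmul v v⁻¹
    rw [h0, zero_mul, mul_inv_cancel, hw1] at this
    exact eL_ne_zero L φ ((smul_eq_zero.1 this.symm).resolve_left (hb.ne _ _))
  have hJl : e * J = J := by simp only [hJ, par, Finset.mul_sum, hwl]
  have hJr : J * e = J := by simp only [hJ, par, Finset.sum_mul, hwr]
  have hwh : ∀ (g : stab L φ), (g : G) ∈ L ⊔ C → ∀ v,
      el (g : G) * w v = w (secConj hd g v) * el (g : G) := fun g hg v => by
    rw [← hwC g hg v, th_conj, mul_assoc, ← el_mul, inv_mul_cancel, el_one, mul_one]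
  have hcomm : ∀ h ∈ Ps L C φ, el h * J = J * el h := fun h hh => by
    simp only [hJ, par, Finset.mul_sum, Finset.sum_mul]
    refine Fintype.sum_equiv (secConj hd ⟨h, hh.2⟩).toEquiv _ _ fun v => ?_
    exact hwh ⟨h, hh.2⟩ hh.1 v
  have hLP : ∀ l : L, (l : G) ∈ Ps L C φ := fun l =>
    ⟨Subgroup.mem_sup_left l.2, le_stab L φ l.2⟩
  refine ⟨J, N, N * Fintype.card R, ?_⟩
  have hsq : J * J = (N : ℂ) • ∑ r : R, w r := by
    rw [hJ, hn.par_sq hb]
    congr 1
    exact Finset.sum_subtype _ (fun x => by simp [R]) _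
  have hbinv : ∀ (α : Sec L (Qs L K φ) ≃* Sec L (Qs L K φ)) (β : MulAut G),
      (∀ v, th β (w v) = w (α v)) → ∀ v x, b (α v) (α x) = b v x := fun α β h v x => by
    have := congrArg (th β) (hwmul v x)
    rw [map_mul, map_smul, h, h, h, hwmul, map_mul] at this
    exact smul_left_injective ℂ (hwne _) this
  have hk : ∀ q : Qs L K φ, ∃ f : L → ℂ, w (QuotientGroup.mk q) = emb L f * el (q : G) :=
    fun q => (hwZ q).coset
  refine
    { M_ne := Nat.mul_ne_zero Fintype.card_ne_zero Fintype.card_ne_zero
      N_ne := Fintype.card_ne_zero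
      left := hJl
      right := hJr
      cube := ?_
      comm := hcomm
      move := ?_
      card := ?_
      trace := ?_
      reg := ?_
      nonvanish := ?_ }
  · rw [hsq, mul_smul_comm, Finset.mul_sum,
      Finset.sum_congr rfl fun r _ => hn.par_radical hb r.2, Finset.sum_const, Finset.card_univ,
      ← Nat.cast_smul_eq_nsmul ℂ, smul_smul, ← Nat.cast_mul]
  · intro s
    simp only [hJ, par, map_sum, hwS]
    exact Equiv.sum_comp (secAct hd hd.mapQ s).toEquiv w
  · -- the decomposition of the stabiliser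
    have hbij : Function.Bijective (fun p : Sec L (Qs L K φ) × Ps L C φ =>
        (⟨((Quotient.out p.1 : Qs L K φ) : G) * p.2,
          (stab L φ).mul_mem (Quotient.out p.1).2.2 p.2.2.2⟩ : stab L φ)) := by
      constructor
      · rintro ⟨v, h⟩ ⟨v', h'⟩ he
        have he' : ((Quotient.out v : Qs L K φ) : G) * h = (Quotient.out v' : Qs L K φ) * h' :=
          congrArg Subtype.val he
        have h1 : ((Quotient.out v : Qs L K φ) : G)⁻¹ * (Quotient.out v' : Qs L K φ) =
            (h : G) * (h' : G)⁻¹ := by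
          rw [eq_mul_inv_iff_mul_eq, mul_assoc, ← he', inv_mul_cancel_left]
        have h2 : ((Quotient.out v : Qs L K φ) : G)⁻¹ * (Quotient.out v' : Qs L K φ) ∈ L :=
          hd.meet (mul_mem (inv_mem (Quotient.out v).2.1) (Quotient.out v').2.1)
            (h1 ▸ mul_mem h.2.1 (inv_mem h'.2.1))
        have h3 : v = v' := by
          rw [← QuotientGroup.out_eq' v, ← QuotientGroup.out_eq' v', QuotientGroup.eq,
            Subgroup.mem_subgroupOf]
          simpa using h2
        subst h3
        exact Prod.ext rfl (Subtype.ext (mul_left_cancel he'))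
      · rintro ⟨g, hg⟩
        obtain ⟨k, hk, c, hc, rfl⟩ := hd.stab_dec hg
        set v : Sec L (Qs L K φ) := QuotientGroup.mk (⟨k, hk⟩ : Qs L K φ) with hv
        have h1 : (((Quotient.out v : Qs L K φ) : G))⁻¹ * k ∈ L := by
          have := QuotientGroup.out_eq' v
          rw [hv, QuotientGroup.eq, Subgroup.mem_subgroupOf] at this
          simpa using this
        refine ⟨⟨v, ((Quotient.out v : Qs L K φ) : G)⁻¹ * k * c, ?_, ?_⟩, Subtype.ext ?_⟩
        · exact mul_mem (Subgroup.mem_sup_left h1) (Subgroup.mem_sup_right hc.1)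
        · exact mul_mem (le_stab L φ h1) hc.2
        · simp [mul_assoc]
    rw [← Fintype.card_congr (Equiv.ofBijective _ hbij), Fintype.card_prod]
  · intro χ χ'
    have hcl := isClassFunction_character (irr_isCharacter χ.2)
    have hcl' := isClassFunction_character (irr_isCharacter χ'.2)
    -- twisting by the section
    have hstep1 : ∀ (h : Ps L C φ) (x : Sec L (Qs L K φ)),
        tc (χ : G → ℂ) (el (h : G) * J * w x) * tc (χ' : G → ℂ) (w x⁻¹ * (el (h : G)⁻¹ * J)) =
          tc (χ : G → ℂ) (el (h : G) * J) * tc (χ' : G → ℂ) (el (h : G)⁻¹ * J) := by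
      intro h x
      set g : stab L φ := ⟨h, h.2.2⟩ with hg
      set α := (secConj hd g).symm with hα
      have hαw : ∀ u, w u * el (h : G) = el (h : G) * w (α u) := fun u => by
        rw [hwh g h.2.1, hα, MulEquiv.apply_symm_apply]
      have hαw' : ∀ u, el (h : G)⁻¹ * w u = w (α u) * el (h : G)⁻¹ := fun u => by
        have h1 := congrArg (fun z => el (h : G)⁻¹ * z * el (h : G)⁻¹) (hαw u)
        simp only [mul_assoc, ← el_mul, mul_inv_cancel, el_one, mul_one] at h1
        rw [← mul_assoc (el (h : G)⁻¹) (el (h : G)), ← el_mul, inv_mul_cancel, el_one, one_mul] at h1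
        exact h1
      have hα2 : ∀ u, α (α u) = u → α u = u := by
        intro u hu
        obtain ⟨j, hj⟩ := exists_pow_eq_self_of_coprime (x := g) (n := 2) (by
          have h1 : orderOf g ∣ Fintype.card G := by
            rw [← Subgroup.orderOf_coe, ← Nat.card_eq_fintype_card]; exact orderOf_dvd_natCard _
          exact (Nat.coprime_two_left.2 (hd.oddG.of_dvd_nat h1)))
        have h2 : ∀ m, secConj hd ((g ^ 2) ^ m) u = u := by
          intro m
          induction m with
          | zero => rw [pow_zero, secConj_one]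
          | succ m ih =>
            rw [pow_succ', secConj_mul, ih, sq, secConj_mul]
            conv_lhs => rw [← hu]
            simp [hα]
        have h3 := h2 j
        rw [hj] at h3
        rw [hα]
        exact (MulEquiv.symm_apply_eq _).2 h3.symm
      have hbij : Function.Bijective (fun u => (α u * u)⁻¹) := by
        refine Finite.injective_iff_bijective.1 fun u u' he => ?_
        have he' : α u * u = α u' * u' := inv_injective he
        have hd1 : α (u / u') = (u / u')⁻¹ := by
          rw [map_div, inv_div, div_eq_div_iff_mul_eq_mul, he', mul_comm (α u') u']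
        have hd2 : α (u / u') = u / u' := hα2 _ (by rw [hd1, map_inv, hd1, inv_inv])
        have hd3 : (u / u') ^ 2 = 1 := by
          rw [sq]
          nth_rw 2 [← hd2]
          rw [hd1, mul_inv_cancel]
        obtain ⟨m, hm⟩ := hd.odd_sec (Qs L K φ)
        have hd4 : (u / u') ^ (2 * m + 1) = 1 := by rw [← hm]; exact pow_card_eq_one
        rw [pow_succ, pow_mul, hd3, one_pow, one_mul] at hd4
        exact div_eq_one.1 hd4
      obtain ⟨u, rfl⟩ := hbij.2 x
      simp only [inv_inv]
      have hX : tc (χ : G → ℂ) (el (h : G) * J) =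
          b (α u)⁻¹ u⁻¹ * tc (χ : G → ℂ) (el (h : G) * J * w (α u * u)⁻¹) := by
        have h1 : w u * (el (h : G) * J) * w u⁻¹ =
            b (α u)⁻¹ u⁻¹ • (el (h : G) * J * w (α u * u)⁻¹) := by
          rw [← mul_assoc (w u), hαw, mul_assoc (el (h : G)),
            show w (α u) * J = J * w (α u)⁻¹ by rw [hn.par_mul hb, inv_inv]]
          rw [mul_assoc, mul_assoc, hwmul, ← mul_inv, mul_smul_comm, mul_smul_comm, ← mul_assoc]
        have h2 : tc (χ : G → ℂ) (w u * (el (h : G) * J) * w u⁻¹) =
            tc (χ : G → ℂ) (el (h : G) * J) := by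
          rw [tc_comm hcl, ← mul_assoc, hwmul, inv_mul_cancel, hw1, hb.inv_left, hb.self, one_smul,
            tc_comm hcl, mul_assoc, hJr]
        rw [← h2, h1, map_smul, smul_eq_mul]
      have hY : tc (χ' : G → ℂ) (el (h : G)⁻¹ * J) =
          b u (α u) * tc (χ' : G → ℂ) (w (α u * u) * (el (h : G)⁻¹ * J)) := by
        have h3 : b u (α u) • (w (α u * u) * (el (h : G)⁻¹ * J)) =
            w u * (w (α u) * (el (h : G)⁻¹ * J)) := by
          rw [← mul_assoc (w u), hwmul, smul_mul_assoc, mul_comm u (α u)]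
        have h4 : b (α u) (α u)⁻¹ = 1 := hbinv' _
        rw [← smul_eq_mul (b u (α u)), ← map_smul, h3, tc_comm hcl' (w u), mul_assoc (w (α u)),
          hcomm _ (inv_mem h.2), mul_assoc J, hαw', ← mul_assoc J, hn.par_mul hb, ← mul_assoc,
          ← mul_assoc, hwmul, mul_inv_cancel, hw1, h4, one_smul, hJl]
      rw [hX, hY]
      have hbb : b (α u)⁻¹ u⁻¹ * b u (α u) = 1 := by
        rw [hb.inv_left, hb.inv_left, hb.swap]
      linear_combination -(tc (χ : G → ℂ) (el (h : G) * J * w (α u * u)⁻¹) *
        tc (χ' : G → ℂ) (w (α u * u) * (el (h : G)⁻¹ * J))) * hbb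
    -- unfolding into the stabiliser
    have hstep2 : ∀ v : Sec L (Qs L K φ),
        ∑ h : Ps L C φ, tc (χ : G → ℂ) (el (h : G) * J * w v) *
            tc (χ' : G → ℂ) (w v⁻¹ * (el (h : G)⁻¹ * J)) =
          ∑ h : Ps L C φ, tc (χ : G → ℂ) (el (((Quotient.out v : Qs L K φ) : G) * h) * J) *
            tc (χ' : G → ℂ) (el (((Quotient.out v : Qs L K φ) : G) * h)⁻¹ * J) := by
      intro v
      set q : Qs L K φ := Quotient.out v with hq
      have hmk : (QuotientGroup.mk q : Sec L (Qs L K φ)) = v := QuotientGroup.out_eq' v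
      obtain ⟨f, hf⟩ := hk q
      obtain ⟨f', hf'⟩ := hk q⁻¹
      rw [hmk] at hf
      rw [QuotientGroup.mk_inv, hmk, InvMemClass.coe_inv] at hf'
      set k : G := (q : G) with hkdef
      set F' := fun l => f' (MulAut.conjNormal k⁻¹ l) with hF'
      have hB : w v⁻¹ = el k⁻¹ * emb L F' := by
        rw [el_emb, hf']
        congr 2
        funext l
        rw [hF']
        simp only [inv_inv]
        rw [← MulAut.mul_apply, ← map_mul, inv_mul_cancel, map_one]
        rfl
      have hprod : emb L F' * emb L f = e := by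
        have h1 : w v⁻¹ * w v = e := by
          rw [hwmul, inv_mul_cancel, hw1, hb.inv_left, hb.self, one_smul]
        rw [hB, hf] at h1
        have h2 := congrArg (fun z => el k * z * el k⁻¹) h1
        simp only [mul_assoc, ← el_mul, mul_inv_cancel, el_one, mul_one] at h2
        rw [← mul_assoc (el k) (el k⁻¹), ← el_mul, mul_inv_cancel, el_one, one_mul] at h2
        rw [h2, ← mul_assoc, el_eL_comm L φ q.2.2, mul_assoc, ← el_mul, mul_inv_cancel, el_one,
          mul_one]
      have hJL : ∀ l : L, el (l : G) * J = J * el (l : G) := fun l => hcomm _ (hLP l)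
      let F : Ps L C φ → ℂ := fun h => tc (χ : G → ℂ) (el (h : G) * J * w v) *
        tc (χ' : G → ℂ) (w v⁻¹ * (el (h : G)⁻¹ * J))
      let F₀ : Ps L C φ → ℂ := fun h => tc (χ : G → ℂ) (el (h : G) * J * el k) *
        tc (χ' : G → ℂ) (el k⁻¹ * (J * el (h : G)⁻¹))
      have havg : ∀ F : Ps L C φ → ℂ, (Fintype.card L : ℂ) * ∑ h, F h =
          ∑ h : Ps L C φ, ∑ l : L, F (h * ⟨l, hLP l⟩) := fun F => by
        rw [Finset.sum_comm]
        trans ∑ _l : L, ∑ h, F h
        · rw [Finset.sum_const, Finset.card_univ, nsmul_eq_mul]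
        · exact Finset.sum_congr rfl fun l _ =>
            (Equiv.sum_comp (Equiv.mulRight (⟨l, hLP l⟩ : Ps L C φ)) F).symm
      have hcas : ∀ h : Ps L C φ, ∑ l : L, F (h * ⟨l, hLP l⟩) = ∑ l : L, F₀ (h * ⟨l, hLP l⟩) := by
        intro h
        let A : Alg G → ℂ := fun a => tc (χ : G → ℂ) (el (h : G) * (a * J * el k))
        let B : Alg G → ℂ := fun a => tc (χ' : G → ℂ) (el k⁻¹ * (a * J) * el (h : G)⁻¹)
        have hF : ∀ l : L, F (h * ⟨l, hLP l⟩) =
            A (el (l : G) * emb L f) * B (emb L F' * el (l : G)⁻¹) := by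
          intro l
          simp only [F, A, B, hf, hB, Subgroup.coe_mul, mul_inv_rev, el_mul]
          congr 2
          · simp only [mul_assoc]
            rw [← mul_assoc (emb L f) J, el_comm_emb hJL, mul_assoc]
          · simp only [mul_assoc]
            rw [← hcomm _ (inv_mem h.2)]
        have hF₀ : ∀ l : L, F₀ (h * ⟨l, hLP l⟩) = A (el (l : G)) * B (e * el (l : G)⁻¹) := by
          intro l
          simp only [F₀, A, B, Subgroup.coe_mul, mul_inv_rev, el_mul]
          congr 2
          · simp only [mul_assoc]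
          · simp only [mul_assoc]
            rw [← mul_assoc J, ← hcomm _ (inv_mem (hLP l)), ← mul_assoc e,
              ← el_eL_comm L φ (inv_mem (le_stab L φ l.2)), mul_assoc (el (l : G)⁻¹) e,
              ← mul_assoc e J, hJl, mul_assoc]
        rw [Finset.sum_congr rfl fun l _ => hF l, Finset.sum_congr rfl fun l _ => hF₀ l, ← hprod]
        refine casimir A B (fun c x => ?_) (fun c x => ?_) f (emb L F') <;>
          simp [A, B, Finset.sum_mul, Finset.mul_sum, map_sum, map_smul]
      have hFF : ∑ h, F h = ∑ h, F₀ h := by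
        refine mul_left_cancel₀ (Nat.cast_ne_zero.2 (Fintype.card_ne_zero (α := L))) ?_
        rw [havg, havg, Finset.sum_congr rfl fun h _ => hcas h]
      refine hFF.trans (Finset.sum_congr rfl fun h _ => ?_)
      simp only [F₀]
      rw [tc_comm hcl, ← mul_assoc (el k), ← el_mul, tc_comm hcl' (el k⁻¹), mul_assoc J, ← el_mul,
        ← mul_inv_rev, tc_comm hcl' J]
    have hsum : (N : ℂ) * ∑ h : Ps L C φ, tc (χ : G → ℂ) (el (h : G) * J) *
        tc (χ' : G → ℂ) (el (h : G)⁻¹ * J) = ∑ v : Sec L (Qs L K φ), ∑ h : Ps L C φ,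
          tc (χ : G → ℂ) (el (((Quotient.out v : Qs L K φ) : G) * h) * J) *
            tc (χ' : G → ℂ) (el (((Quotient.out v : Qs L K φ) : G) * h)⁻¹ * J) := by
      rw [← Finset.sum_congr rfl fun v _ => hstep2 v, Finset.sum_comm, Finset.mul_sum]
      refine Finset.sum_congr rfl fun h _ => ?_
      rw [Finset.sum_congr rfl fun v _ => hstep1 h v, Finset.sum_const, Finset.card_univ,
        nsmul_eq_mul]
    rw [hsum, ← conv_orth χ χ' J J, ← Fintype.sum_prod_type
      (f := fun p : Sec L (Qs L K φ) × Ps L C φ =>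
        tc (χ : G → ℂ) (el (((Quotient.out p.1 : Qs L K φ) : G) * p.2) * J) *
          tc (χ' : G → ℂ) (el (((Quotient.out p.1 : Qs L K φ) : G) * p.2)⁻¹ * J))]
    have hinj : Function.Injective (fun p : Sec L (Qs L K φ) × Ps L C φ =>
        ((Quotient.out p.1 : Qs L K φ) : G) * p.2) := by
      rintro ⟨v, h⟩ ⟨v', h'⟩ (he' : ((Quotient.out v : Qs L K φ) : G) * h = _ * (h' : G))
      have h1 : ((Quotient.out v : Qs L K φ) : G)⁻¹ * (Quotient.out v' : Qs L K φ) =
          (h : G) * (h' : G)⁻¹ := by
        rw [eq_mul_inv_iff_mul_eq, mul_assoc, ← he', inv_mul_cancel_left]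
      have h2 : ((Quotient.out v : Qs L K φ) : G)⁻¹ * (Quotient.out v' : Qs L K φ) ∈ L :=
        hd.meet (mul_mem (inv_mem (Quotient.out v).2.1) (Quotient.out v').2.1)
          (h1 ▸ mul_mem h.2.1 (inv_mem h'.2.1))
      have h3 : v = v' := by
        rw [← QuotientGroup.out_eq' v, ← QuotientGroup.out_eq' v', QuotientGroup.eq,
          Subgroup.mem_subgroupOf]
        simpa using h2
      subst h3
      exact Prod.ext rfl (Subtype.ext (mul_left_cancel he'))
    refine Fintype.sum_of_injective _ hinj _ _ (fun g hg => ?_) fun p => rfl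
    by_cases hgT : g ∈ stab L φ
    · exfalso
      apply hg
      obtain ⟨k, hk, c, hc, rfl⟩ := hd.stab_dec hgT
      set v : Sec L (Qs L K φ) := QuotientGroup.mk (⟨k, hk⟩ : Qs L K φ) with hv
      have h1 : (((Quotient.out v : Qs L K φ) : G))⁻¹ * k ∈ L := by
        have := QuotientGroup.out_eq' v
        rw [hv, QuotientGroup.eq, Subgroup.mem_subgroupOf] at this
        simpa using this
      exact ⟨⟨v, ((Quotient.out v : Qs L K φ) : G)⁻¹ * k * c,
        mul_mem (Subgroup.mem_sup_left h1) (Subgroup.mem_sup_right hc.1),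
        mul_mem (le_stab L φ h1) hc.2⟩, by simp [mul_assoc]⟩
    · have : tc (χ : G → ℂ) (el g * J) = 0 := by
        rw [show el g * J = el g * J * e by rw [mul_assoc, hJr], tc_comm hcl, ← mul_assoc]
        conv_lhs => rw [← hJl, ← mul_assoc, eL_el_eL L φ hgT, zero_mul, map_zero]
      rw [this, zero_mul]
  · intro h hh
    rw [hJ, par, Finset.mul_sum, MonoidAlgebra.coeff_sum, Finsupp.finset_sum_apply,
      Finset.sum_eq_single 1 ?_ (by simp), hw1]
    intro v _ hv
    obtain ⟨q, rfl⟩ := QuotientGroup.mk_surjective v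
    obtain ⟨f, hf⟩ := hk q
    rw [hf]
    simp only [emb, LinearMap.coe_mk, AddHom.coe_mk, Finset.sum_mul, Finset.mul_sum, smul_mul_assoc,
      mul_smul_comm, ← el_mul, MonoidAlgebra.coeff_sum, Finsupp.finset_sum_apply]
    refine Finset.sum_eq_zero fun l _ => ?_
    have hne : h * ((l : G) * q) ≠ 1 := fun h1 => hv (by
      rw [QuotientGroup.eq_one_iff, Subgroup.mem_subgroupOf]
      refine hd.meet q.2.1 ?_
      rw [show (q : G) = (l : G)⁻¹ * h⁻¹ by
        rw [← mul_inv_rev, eq_inv_iff_mul_eq_one]
        rw [← mul_eq_one_comm, mul_assoc]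
        exact h1]
      exact mul_mem (Subgroup.mem_sup_left (inv_mem l.2)) (inv_mem hh))
    simp [el, MonoidAlgebra.of_apply, hne]
  · intro χ hχe hχS
    have hcl := isClassFunction_character (irr_isCharacter χ.2)
    have hRle : ∀ (r : R) (v : Sec L (Qs L K φ)), b (r : Sec L (Qs L K φ)) v = 1 := fun r v => by
      have := hb.swap v r
      rw [r.2 v, one_mul] at this
      exact this
    let om : (R → ℂ) →ₗ[ℂ] Alg G :=
      { toFun := fun f => ∑ r : R, f r • w r
        map_add' := fun f g => by simp [add_smul, Finset.sum_add_distrib]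
        map_smul' := fun c f => by simp [Finset.smul_sum, smul_smul] }
    have hom : ∀ f g : R → ℂ, om f * om g = om (conv f g) := fun f g => by
      simp only [om, LinearMap.coe_mk, AddHom.coe_mk, Finset.sum_mul, Finset.mul_sum,
        smul_mul_smul_comm, hwmul, hRle, one_smul, conv, Finset.sum_smul]
      rw [Finset.sum_comm (f := fun (i : R) (j : R) => (f j * g (j⁻¹ * i)) • w i), Finset.sum_comm]
      refine Finset.sum_congr rfl fun a _ => Fintype.sum_equiv (Equiv.mulLeft a) _ _ fun c => ?_
      simp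
    let p : IrrCharacter R → Alg G := fun ψ => om (idem (ψ : R → ℂ))
    have hRab : ∀ x y : R, x * y = y * x := fun x y => Subtype.ext (mul_comm _ _)
    have hlin : ∀ ψ : IrrCharacter R, (ψ : R → ℂ) 1 = 1 := forall_linear_iff_comm.1 hRab
    have hsum : ∑ ψ : IrrCharacter R, p ψ = e := by
      simp only [p, ← map_sum]
      have hfun : ∑ ψ : IrrCharacter R, idem (ψ : R → ℂ) = fun r => if r = 1 then 1 else 0 := by
        have hc : IsClassFunction R (fun r : R => if r = 1 then (1 : ℂ) else 0) := fun a k => by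
          simp [hRab k a, mul_assoc]
        conv_rhs => rw [classFun_eq_sum_idem hc]
        refine Finset.sum_congr rfl fun ψ _ => ?_
        simp [lam, hlin ψ]
      rw [hfun]
      simp [om, ite_smul, hw1]
    obtain ⟨lam₀, hlam₀⟩ : ∃ ψ, tc (χ : G → ℂ) (p ψ) ≠ 0 := by
      by_contra hall
      push Not at hall
      apply hχe
      rw [← he, ← hsum, map_sum]
      exact Finset.sum_eq_zero fun ψ _ => hall ψ
    have hpl : ∀ ψ, e * p ψ = p ψ := fun ψ => by
      simp [p, om, Finset.mul_sum, mul_smul_comm, hwl]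
    have hpr : ∀ ψ, p ψ * e = p ψ := fun ψ => by
      simp [p, om, Finset.sum_mul, smul_mul_assoc, hwr]
    -- the induced permutations of the radical
    have hRs : ∀ (α : Sec L (Qs L K φ) ≃* Sec L (Qs L K φ)) (β : MulAut G),
        (∀ v, th β (w v) = w (α v)) → ∀ r ∈ R, α r ∈ R := fun α β hα r hr v => by
      have := hbinv α β hα (α.symm v) r
      rw [α.apply_symm_apply] at this
      rw [this]
      exact hr _
    have hres : ∀ (α : Sec L (Qs L K φ) ≃* Sec L (Qs L K φ)) (β : MulAut G),
        (∀ v, th β (w v) = w (α v)) → ∃ αR : MulAut R, ∀ r : R,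
          ((αR r : R) : Sec L (Qs L K φ)) = α r := by
      intro α β hα
      let f : R →* R :=
        { toFun := fun r => ⟨α r, hRs α β hα r r.2⟩
          map_one' := Subtype.ext (map_one α)
          map_mul' := fun x y => Subtype.ext (map_mul α _ _) }
      exact ⟨MulEquiv.ofBijective f (Finite.injective_iff_bijective.1 fun x y h =>
        Subtype.ext (α.injective (congrArg Subtype.val h))), fun r => rfl⟩
    have hth : ∀ (α : Sec L (Qs L K φ) ≃* Sec L (Qs L K φ)) (β : MulAut G) (αR : MulAut R),
        (∀ v, th β (w v) = w (α v)) → (∀ r : R, ((αR r : R) : Sec L (Qs L K φ)) = α r) →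
          ∀ ψ : IrrCharacter R, th β (p (irrComp αR ψ)) = p ψ := by
      intro α β αR hα hαR ψ
      simp only [p, om, LinearMap.coe_mk, AddHom.coe_mk, map_sum, map_smul, hα]
      refine Fintype.sum_equiv αR.toEquiv _ _ fun r => ?_
      show _ = idem (ψ : R → ℂ) (αR r) • w ((αR r : R) : Sec L (Qs L K φ))
      rw [hαR]
      simp [idem]
    have hCcl : ∀ (g : G) (a : Alg G), tc (χ : G → ℂ) (th (MulAut.conj g) a) = tc (χ : G → ℂ) a :=
      fun g a => by rw [th_conj, tc_comm hcl, ← mul_assoc, ← el_mul, inv_mul_cancel, el_one, one_mul]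
    choose cR hcR using fun h : Ps L C φ =>
      hres (secConj hd ⟨h, h.2.2⟩) (MulAut.conj (h : G)) (fun v => hwC ⟨h, h.2.2⟩ h.2.1 v)
    let O : Finset (IrrCharacter R) := Finset.univ.image fun h => irrComp (cR h) lam₀
    have hOp : ∀ h : Ps L C φ, tc (χ : G → ℂ) (p (irrComp (cR h) lam₀)) = tc (χ : G → ℂ) (p lam₀) :=
      fun h => by
        rw [← hth _ _ (cR h) (fun v => hwC ⟨h, h.2.2⟩ h.2.1 v) (hcR h) lam₀, hCcl]
    set PO : Alg G := ∑ ψ ∈ O, p ψ with hPO
    have hpcomm : ∀ (q : Qs L K φ) (ψ : IrrCharacter R), el (q : G) * p ψ = p ψ * el (q : G) := by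
      intro q ψ
      set v : Sec L (Qs L K φ) := QuotientGroup.mk q
      obtain ⟨f', hf'⟩ := hk q⁻¹
      rw [QuotientGroup.mk_inv, InvMemClass.coe_inv] at hf'
      have hX : el (q : G) * e = w v * (emb L f' * e) := by
        have h1 : w v * w v⁻¹ = e := by
          rw [hwmul, mul_inv_cancel, hw1, hbinv' v, one_smul]
        calc el (q : G) * e = e * el (q : G) * e := by
              rw [← el_eL_comm L φ q.2.2, mul_assoc, eL_mul_self]
          _ = w v * w v⁻¹ * el (q : G) * e := by rw [h1]
          _ = _ := by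
            rw [hf']
            simp only [mul_assoc]
            rw [← mul_assoc (el (q : G)⁻¹) (el (q : G)), ← el_mul, inv_mul_cancel, el_one, one_mul]
      have hpL : ∀ l : L, el (l : G) * p ψ = p ψ * el (l : G) := fun l => by
        simp only [p, om, LinearMap.coe_mk, AddHom.coe_mk, Finset.mul_sum, Finset.sum_mul,
          mul_smul_comm, smul_mul_assoc]
        refine Finset.sum_congr rfl fun r _ => ?_
        obtain ⟨q', hq'⟩ := QuotientGroup.mk_surjective (r : Sec L (Qs L K φ))
        rw [← hq', (hwZ q').comm]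
      have hpw : w v * p ψ = p ψ * w v := by
        simp only [p, om, LinearMap.coe_mk, AddHom.coe_mk, Finset.mul_sum, Finset.sum_mul,
          mul_smul_comm, smul_mul_assoc]
        refine Finset.sum_congr rfl fun r _ => ?_
        rw [hwmul, hwmul, r.2 v, hRle r v, mul_comm v]
      have hpe : (emb L f' * e) * p ψ = p ψ * (emb L f' * e) := by
        rw [mul_assoc, hpl, el_comm_emb hpL, ← mul_assoc]
        conv_rhs => rw [← el_comm_emb hpL, mul_assoc, hpr]
        rw [el_comm_emb hpL]
      calc el (q : G) * p ψ = el (q : G) * e * p ψ := by rw [mul_assoc, hpl]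
        _ = p ψ * (el (q : G) * e) := by
          rw [hX, mul_assoc, hpe, ← mul_assoc, hpw, mul_assoc]
        _ = p ψ * el (q : G) := by rw [el_eL_comm L φ q.2.2, ← mul_assoc, hpr]
    have hmovO : ∀ h : Ps L C φ, th (MulAut.conj (h : G)) PO = PO := by
      intro h
      have hR : ∀ (h₁ : Ps L C φ) (r : R), cR (h₁ * h) r = cR h₁ (cR h r) := fun h₁ r =>
        Subtype.ext (by
          rw [hcR, hcR, hcR, ← secConj_mul]
          rfl)
      have hcomp : ∀ h₁ : Ps L C φ,
          irrComp (cR h) (irrComp (cR h₁) lam₀) = irrComp (cR (h₁ * h)) lam₀ := fun h₁ =>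
        Subtype.ext (funext fun r => by rw [irrComp_apply, irrComp_apply, irrComp_apply, hR])
      have hO : ∀ ψ ∈ O, irrComp (cR h) ψ ∈ O := fun ψ hψ => by
        obtain ⟨h₁, -, rfl⟩ := Finset.mem_image.1 hψ
        rw [hcomp]
        exact Finset.mem_image_of_mem _ (Finset.mem_univ _)
      have himg : O.image (irrComp (cR h)) = O :=
        Finset.eq_of_subset_of_card_le (fun ψ hψ => by
          obtain ⟨ψ', hψ', rfl⟩ := Finset.mem_image.1 hψ
          exact hO ψ' hψ') (le_of_eq (Finset.card_image_of_injective _ fun ψ ψ' he => by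
            refine Subtype.ext (funext fun r => ?_)
            have := congrFun (congrArg Subtype.val he) ((cR h).symm r)
            simpa using this).symm)
      have hinj : Set.InjOn (irrComp (cR h)) (O : Set (IrrCharacter R)) := fun ψ _ ψ' _ he => by
        refine Subtype.ext (funext fun r => ?_)
        have := congrFun (congrArg Subtype.val he) ((cR h).symm r)
        simpa using this
      conv_lhs => rw [hPO, ← himg, Finset.sum_image hinj, map_sum]
      rw [hPO]
      exact Finset.sum_congr rfl fun ψ _ =>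
        hth _ _ (cR h) (fun v => hwC ⟨h, h.2.2⟩ h.2.1 v) (hcR h) ψ
    have hPOc : ∀ g ∈ stab L φ, el g * PO = PO * el g := by
      intro g hg
      obtain ⟨k, hk, c, hc, rfl⟩ := hd.stab_dec hg
      have h1 : el c * PO = PO * el c := by
        have := hmovO ⟨c, Subgroup.mem_sup_right hc.1, hc.2⟩
        rw [th_conj] at this
        conv_rhs => rw [← this]
        rw [mul_assoc, ← el_mul, inv_mul_cancel, el_one, mul_one]
      have h2 : el k * PO = PO * el k := by
        simp only [hPO, Finset.mul_sum, Finset.sum_mul]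
        exact Finset.sum_congr rfl fun ψ _ => hpcomm ⟨k, hk⟩ ψ
      rw [el_mul, mul_assoc, h1, ← mul_assoc, h2, mul_assoc]
    have hPOl : e * PO = PO := by simp only [hPO, Finset.mul_sum, hpl]
    have hPOr : PO * e = PO := by simp only [hPO, Finset.sum_mul, hpr]
    have hPO0 : tc (χ : G → ℂ) PO ≠ 0 := by
      rw [hPO, map_sum, Finset.sum_congr rfl fun ψ hψ => (show tc (χ : G → ℂ) (p ψ) =
        tc (χ : G → ℂ) (p lam₀) by obtain ⟨h, -, rfl⟩ := Finset.mem_image.1 hψ; exact hOp h),
        Finset.sum_const, nsmul_eq_mul]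
      refine mul_ne_zero (Nat.cast_ne_zero.2 ?_) hlam₀
      exact Finset.card_ne_zero.2 ⟨_, Finset.mem_image_of_mem _ (Finset.mem_univ 1)⟩
    have hnotO : ∀ ψ, ψ ∉ O → tc (χ : G → ℂ) (p ψ) = 0 := by
      intro ψ hψ
      have h := corner_scalar χ hPOl hPOr hPOc (b := p ψ) (by rw [hpl, hpr])
      rw [show p ψ * PO = 0 by
        rw [hPO, Finset.mul_sum]
        refine Finset.sum_eq_zero fun ψ' hψ' => ?_
        simp only [p]
        rw [hom, conv_idem, if_neg (fun e' : ψ = ψ' => hψ (e'.symm ▸ hψ')), map_zero], map_zero, mul_zero,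
        mul_zero] at h
      refine (mul_eq_zero.1 h.symm).resolve_left (mul_ne_zero ?_ hPO0)
      exact_mod_cast Fintype.card_ne_zero
    -- `lam₀` is fixed by `S`
    have hfix : ∀ (s : S) (r r' : R), (r' : Sec L (Qs L K φ)) = secAct hd hd.mapQ s r →
        (lam₀ : R → ℂ) r' = (lam₀ : R → ℂ) r := by
      intro s
      obtain ⟨sR, hsR⟩ := hres (secAct hd hd.mapQ s) (σ s) (hwS s)
      have hmu : tc (χ : G → ℂ) (p (irrComp sR lam₀)) = tc (χ : G → ℂ) (p lam₀) := by
        rw [← hth _ _ sR (hwS s) hsR lam₀, tc_th,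
          show (fun g => (χ : G → ℂ) (σ s g)) = (χ : G → ℂ) from funext (hχS s)]
      obtain ⟨h, -, hh⟩ := Finset.mem_image.1 (show irrComp sR lam₀ ∈ O from
        not_not.1 fun hn => hlam₀ (hmu ▸ hnotO _ hn))
      obtain ⟨l, hl, c, hc, hlc⟩ := Subgroup.mem_sup_of_normal_left.1 h.2.1
      have hcT : c ∈ stab L φ := by
        have := mul_mem (inv_mem (le_stab L φ hl)) h.2.2
        rwa [← hlc, inv_mul_cancel_left] at this
      set cs : stab L φ := ⟨c, hcT⟩ with hcs
      have hαc : ∀ v, secConj hd ⟨h, h.2.2⟩ v = secConj hd cs v := by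
        intro v
        induction v using QuotientGroup.induction_on with
        | _ q =>
          rw [secConj_mk, secConj_mk, QuotientGroup.eq, Subgroup.mem_subgroupOf]
          show ((h : G) * q * (h : G)⁻¹)⁻¹ * (c * q * c⁻¹) ∈ L
          rw [← hlc, show (l * c * q * (l * c)⁻¹)⁻¹ * (c * q * c⁻¹) =
            l * ((c * q * c⁻¹)⁻¹ * l⁻¹ * (c * q * c⁻¹)) by group]
          exact mul_mem hl (by
            simpa using Subgroup.Normal.conj_mem inferInstance _ (inv_mem hl) (c * q * c⁻¹)⁻¹)
      have hcomm' : ∀ (i : ℕ) v, secAct hd hd.mapQ (s ^ i) (secConj hd cs v) =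
          secConj hd cs (secAct hd hd.mapQ (s ^ i) v) := by
        intro i v
        induction v using QuotientGroup.induction_on with
        | _ q =>
          rw [secConj_mk, secAct_mk, secAct_mk, secConj_mk]
          congr 1
          exact Subtype.ext (show σ (s ^ i) (c * (q : G) * c⁻¹) = c * σ (s ^ i) (q : G) * c⁻¹ by
            rw [map_mul, map_mul, map_inv, hd.fixC (s ^ i) c hc])
      -- the value of `lam₀` along the orbits
      let ev : Sec L (Qs L K φ) → ℂ := fun v => if hv : v ∈ R then (lam₀ : R → ℂ) ⟨v, hv⟩ else 0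
      have hstep : ∀ v ∈ R, ev (secAct hd hd.mapQ s v) = ev (secConj hd cs v) := by
        intro v hv
        have h1 := congrFun (congrArg Subtype.val hh) ⟨v, hv⟩
        rw [irrComp_apply, irrComp_apply] at h1
        rw [show secConj hd cs v = ((cR h ⟨v, hv⟩ : R) : Sec L (Qs L K φ)) by rw [hcR, hαc],
          show secAct hd hd.mapQ s v = ((sR ⟨v, hv⟩ : R) : Sec L (Qs L K φ)) by rw [hsR]]
        simp only [ev, SetLike.coe_mem, dif_pos, h1]
      have hsi : ∀ (i : ℕ), ∀ v ∈ R, secAct hd hd.mapQ (s ^ i) v ∈ R := fun i v hv =>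
        hRs _ _ (hwS (s ^ i)) v hv
      have hci : ∀ (g : stab L φ), (g : G) ∈ L ⊔ C → ∀ v ∈ R, secConj hd g v ∈ R := fun g hg v hv =>
        hRs _ _ (fun u => hwC g hg u) v hv
      have hcC : ∀ i : ℕ, ((cs ^ i : stab L φ) : G) ∈ L ⊔ C := fun i => by
        rw [SubmonoidClass.coe_pow]
        exact Subgroup.mem_sup_right (pow_mem hc i)
      have hiter : ∀ (i : ℕ), ∀ v ∈ R, ev (secAct hd hd.mapQ (s ^ i) v) =
          ev (secConj hd (cs ^ i) v) := by
        intro i
        induction i with
        | zero =>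
          intro v _
          rw [pow_zero, pow_zero, secConj_one]
          congr 1
          induction v using QuotientGroup.induction_on with
          | _ q => rw [secAct_mk]; simp
        | succ i ih =>
          intro v hv
          rw [pow_succ', secAct_mul, hstep _ (hsi i v hv), ← hcomm' i v,
            ih _ (hci cs (Subgroup.mem_sup_right hc) v hv), ← secConj_mul, pow_succ]
      have hn : ∀ v ∈ R, ev (secConj hd (cs ^ Fintype.card S) v) = ev v := fun v hv => by
        rw [← hiter _ v hv, pow_card_eq_one]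
        congr 1
        induction v using QuotientGroup.induction_on with
        | _ q => rw [secAct_mk]; simp
      have hj : ∀ j : ℕ, ∀ v ∈ R, ev (secConj hd ((cs ^ Fintype.card S) ^ j) v) = ev v := by
        intro j
        induction j with
        | zero => intro v _; rw [pow_zero, secConj_one]
        | succ j ih =>
          intro v hv
          rw [pow_succ', secConj_mul, hn _ (by
            rw [← pow_mul]; exact hci _ (hcC _) v hv), ih v hv]
      obtain ⟨j, hj'⟩ := exists_pow_eq_self_of_coprime (x := cs) (n := Fintype.card S)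
        (hd.co.coprime_dvd_right (by
          rw [← Subgroup.orderOf_coe, ← Nat.card_eq_fintype_card]; exact orderOf_dvd_natCard _))
      intro r r' hr
      have h1 := hstep r r.2
      have h2 := hj j r r.2
      rw [hj'] at h2
      rw [h2, ← hr] at h1
      simpa [ev] using h1
    -- hence it is trivial
    have htriv : ∀ r : R, (lam₀ : R → ℂ) r = 1 := by
      intro r
      obtain ⟨l, hl⟩ := exists_hom_of_degree_one (irr_isCharacter lam₀.2) (hlin lam₀)
      choose rs hrs using fun s : S => (⟨⟨_, hRs _ _ (hwS s) r r.2⟩, rfl⟩ :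
        ∃ x : R, (x : Sec L (Qs L K φ)) = secAct hd hd.mapQ s r)
      letI : CommGroup R := R.toCommGroup
      have hprod : ∏ s : S, rs s = 1 := Subtype.ext (by
        rw [Subgroup.val_finset_prod, Finset.prod_congr rfl fun s _ => hrs s,
          secAct_norm hd inf_le_left hd.mapQ]
        rfl)
      have hl' : ∀ s, l (rs s) = l r := fun s => by
        apply Units.ext
        have := hfix s r (rs s) (hrs s)
        simpa [hl] using this
      have h1 : l r ^ Fintype.card S = 1 := by
        rw [← Finset.card_univ, ← Finset.prod_const, ← Finset.prod_congr rfl fun s _ => hl' s,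
          ← map_prod, hprod, map_one]
      have h2 : l r ^ Fintype.card R = 1 := by rw [← map_pow, pow_card_eq_one, map_one]
      have hco : (Fintype.card S).Coprime (Fintype.card R) := hd.co.coprime_dvd_right (by
        rw [← Nat.card_eq_fintype_card]
        exact (Subgroup.card_subgroup_dvd_card R).trans (hd.card_sec _))
      have := (pow_gcd_eq_one (a := l r)).2 ⟨h1, h2⟩
      rw [hco, pow_one] at this
      simp [hl, this]
    rw [hsq, map_smul, smul_eq_mul]
    refine mul_ne_zero (Nat.cast_ne_zero.2 Fintype.card_ne_zero) ?_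
    have : (∑ r : R, w r) = (Fintype.card R : ℂ) • p lam₀ := by
      simp only [p, om, LinearMap.coe_mk, AddHom.coe_mk, Finset.smul_sum, smul_smul, idem, htriv]
      simp
    rw [this, map_smul, smul_eq_mul]
    exact mul_ne_zero (Nat.cast_ne_zero.2 Fintype.card_ne_zero) hlam₀

end Cfsg.Agent.Char.OddCorr
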