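import Cfsg.Agent.Lib.Char.OddCorr.Corner

/-!
# Coprime odd sections without fixed points
-/

set_option autoImplicit false
set_option linter.unusedSectionVars false
set_option linter.style.haveILetI false

namespace Cfsg.Agent.Char.OddCorr

open Cfsg Module

universe u

variable {G : Type u} [Group G] [Fintype G] {L K C : Subgroup G} [L.Normal] [Fintype L]
  {S : Type*} [Group S] [Fintype S] {φ : IrrCharacter L} {σ : S →* MulAut G}

/-- The setting: `G = K C` of odd order, `C` centralised by the coprime group `S`, which has no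
fixed point in the abelian section `K / L` and fixes `φ`. -/
structure Ctx (L K C : Subgroup G) (φ : IrrCharacter L) (σ : S →* MulAut G) : Prop where
  oddG : Odd (Fintype.card G)
  co : (Fintype.card S).Coprime (Fintype.card G)
  le : L ≤ K
  comm : ∀ a ∈ K, ∀ b ∈ K, a * b * a⁻¹ * b⁻¹ ∈ L
  conjK : ∀ g : G, ∀ k ∈ K, g * k * g⁻¹ ∈ K
  dec : ∀ g : G, ∃ k ∈ K, ∃ c ∈ C, g = k * c
  fixC : ∀ s, ∀ c ∈ C, σ s c = c
  mapK : ∀ s, ∀ k ∈ K, σ s k ∈ K
  mapL : ∀ s, ∀ l ∈ L, σ s l ∈ L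
  free : ∀ k ∈ K, (∀ s, k⁻¹ * σ s k ∈ L) → k ∈ L
  inv : ∀ s, ∀ l : L, ∀ hl : σ s (l : G) ∈ L, (φ : L → ℂ) ⟨σ s l, hl⟩ = (φ : L → ℂ) l

theorem Ctx.inv_act (hd : Ctx L K C φ σ) (s : S) (g : G) : σ s (σ s⁻¹ g) = g := by
  rw [← MulAut.mul_apply, ← map_mul, mul_inv_cancel, map_one, MulAut.one_apply]

theorem Ctx.mem_of_map (hd : Ctx L K C φ σ) {s : S} {g : G} (h : σ s g ∈ L) : g ∈ L := by
  have := hd.mapL s⁻¹ _ h
  rwa [← MulAut.mul_apply, ← map_mul, inv_mul_cancel, map_one, MulAut.one_apply] at this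

theorem Ctx.meet (hd : Ctx L K C φ σ) {g : G} (hK : g ∈ K) (hH : g ∈ L ⊔ C) : g ∈ L := by
  obtain ⟨l, hl, c, hc, rfl⟩ := Subgroup.mem_sup_of_normal_left.1 hH
  refine mul_mem hl (hd.free c ?_ fun s => ?_)
  · have := mul_mem (hd.le (inv_mem hl)) hK
    rwa [inv_mul_cancel_left] at this
  · rw [hd.fixC s c hc, inv_mul_cancel]
    exact one_mem L

/-- The section `Q / L`. -/
abbrev Sec (L Q : Subgroup G) : Type u := ↥Q ⧸ L.subgroupOf Q

/-- Sections below `K` are abelian. -/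
@[reducible] noncomputable def Ctx.secGroup (hd : Ctx L K C φ σ) {Q : Subgroup G} (hQ : Q ≤ K) :
    CommGroup (Sec L Q) :=
  { (inferInstance : Group (Sec L Q)) with
    mul_comm := by
      intro x y
      induction x using QuotientGroup.induction_on with
      | _ a =>
        induction y using QuotientGroup.induction_on with
        | _ b =>
          rw [← QuotientGroup.mk_mul, ← QuotientGroup.mk_mul, QuotientGroup.eq,
            Subgroup.mem_subgroupOf]
          have := hd.comm _ (inv_mem (hQ b.2)) _ (inv_mem (hQ a.2))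
          simpa [mul_assoc] using this }

/-- The action of `S` on a stable section. -/
noncomputable def secAct (hd : Ctx L K C φ σ) {Q : Subgroup G} (hS : ∀ s, ∀ q ∈ Q, σ s q ∈ Q)
    (s : S) : Sec L Q ≃* Sec L Q :=
  QuotientGroup.congr _ _
    ({ toFun := fun q => ⟨σ s q, hS s q q.2⟩
       invFun := fun q => ⟨σ s⁻¹ q, hS s⁻¹ q q.2⟩
       left_inv := fun q => Subtype.ext (by
         show σ s⁻¹ (σ s (q : G)) = q
         rw [← MulAut.mul_apply, ← map_mul, inv_mul_cancel, map_one, MulAut.one_apply])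
       right_inv := fun q => Subtype.ext (hd.inv_act s q)
       map_mul' := fun a b => Subtype.ext (map_mul (σ s) _ _) } : Q ≃* Q)
    (by
      ext x
      simp only [Subgroup.mem_map, Subgroup.mem_subgroupOf]
      constructor
      · rintro ⟨y, hy, rfl⟩
        exact hd.mapL s y hy
      · intro hx
        exact ⟨⟨σ s⁻¹ x, hS s⁻¹ x x.2⟩, hd.mapL s⁻¹ x hx, Subtype.ext (hd.inv_act s x)⟩)

theorem secAct_mk (hd : Ctx L K C φ σ) {Q : Subgroup G} (hS : ∀ s, ∀ q ∈ Q, σ s q ∈ Q) (s : S)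
    (q : Q) : secAct hd hS s (QuotientGroup.mk q) = QuotientGroup.mk ⟨σ s q, hS s q q.2⟩ := rfl

theorem secAct_mul (hd : Ctx L K C φ σ) {Q : Subgroup G} (hS : ∀ s, ∀ q ∈ Q, σ s q ∈ Q) (s t : S)
    (x : Sec L Q) : secAct hd hS (s * t) x = secAct hd hS s (secAct hd hS t x) := by
  induction x using QuotientGroup.induction_on with
  | _ q =>
    rw [secAct_mk, secAct_mk, secAct_mk]
    simp [map_mul]

/-- The norm over `S` vanishes. -/
theorem secAct_norm (hd : Ctx L K C φ σ) {Q : Subgroup G} (hQ : Q ≤ K)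
    (hS : ∀ s, ∀ q ∈ Q, σ s q ∈ Q) (x : Sec L Q) :
    letI := hd.secGroup hQ
    ∏ s : S, secAct hd hS s x = 1 := by
  letI := hd.secGroup hQ
  obtain ⟨q, hq⟩ := QuotientGroup.mk_surjective (∏ s : S, secAct hd hS s x)
  rw [← hq, QuotientGroup.eq_one_iff, Subgroup.mem_subgroupOf]
  refine hd.free _ (hQ q.2) fun t => ?_
  have hfix : secAct hd hS t (QuotientGroup.mk q) = QuotientGroup.mk q := by
    rw [hq, map_prod]
    exact Fintype.prod_equiv (Equiv.mulLeft t) _ _ fun s => (secAct_mul hd hS t s x).symm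
  rw [secAct_mk, QuotientGroup.eq, Subgroup.mem_subgroupOf] at hfix
  simpa using inv_mem hfix

theorem Ctx.map_stab (hd : Ctx L K C φ σ) (s : S) {g : G} (hg : g ∈ stab L φ) :
    σ s g ∈ stab L φ := by
  rw [mem_stab] at hg ⊢
  intro l
  have hl : σ s⁻¹ (l : G) ∈ L := hd.mapL _ _ l.2
  have hl2 : σ s⁻¹ ((MulAut.conjNormal (σ s g) l : L) : G) ∈ L := hd.mapL _ _ (SetLike.coe_mem _)
  rw [← hd.inv s⁻¹ l hl, ← hd.inv s⁻¹ _ hl2, ← hg ⟨_, hl⟩]
  refine congrArg (φ : L → ℂ) (Subtype.ext ?_)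
  simp [map_mul, map_inv, MulAut.inv_def]

/-- An element of `K` moved by `S` only inside the stabiliser lies in it. -/
theorem Ctx.mem_stab_of_diff (hd : Ctx L K C φ σ) {k : G} (hk : k ∈ K)
    (hdiff : ∀ s, σ s k * k⁻¹ ∈ stab L φ) : k ∈ stab L φ := by
  letI := hd.secGroup (le_refl K)
  let π : K →* Sec L K := QuotientGroup.mk' _
  let QQ : Subgroup (Sec L K) := ((stab L φ).subgroupOf K).map π
  have h1 : (π ⟨k, hk⟩) ^ Fintype.card S ∈ QQ := by
    have h2 : ∏ s : S, (secAct hd hd.mapK s (π ⟨k, hk⟩) * (π ⟨k, hk⟩)⁻¹) ∈ QQ :=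
      prod_mem fun s _ => ⟨⟨σ s k * k⁻¹, mul_mem (hd.mapK s k hk) (inv_mem hk)⟩,
        Subgroup.mem_subgroupOf.2 (hdiff s), rfl⟩
    rw [Finset.prod_mul_distrib, secAct_norm hd le_rfl, one_mul, Finset.prod_const,
      Finset.card_univ, inv_pow] at h2
    exact inv_mem_iff.1 h2
  obtain ⟨j, hj⟩ := exists_pow_eq_self_of_coprime (x := π ⟨k, hk⟩) (n := Fintype.card S)
    (Nat.Coprime.coprime_dvd_right ((orderOf_map_dvd π _).trans (by
      rw [← Subgroup.orderOf_coe, ← Nat.card_eq_fintype_card]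
      exact orderOf_dvd_natCard k)) hd.co)
  obtain ⟨y, hy, hyk⟩ := (hj ▸ pow_mem h1 j : π ⟨k, hk⟩ ∈ QQ)
  rw [QuotientGroup.mk'_eq_mk'] at hyk
  obtain ⟨z, hz, hyz⟩ := hyk
  have := congrArg Subtype.val hyz
  rw [show k = (y : G) * z from this.symm]
  exact mul_mem (Subgroup.mem_subgroupOf.1 hy) (le_stab L φ (Subgroup.mem_subgroupOf.1 hz))

/-- The stabiliser of `φ` splits. -/
theorem Ctx.stab_dec (hd : Ctx L K C φ σ) {g : G} (hg : g ∈ stab L φ) :
    ∃ k ∈ K ⊓ stab L φ, ∃ c ∈ C ⊓ stab L φ, g = k * c := by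
  obtain ⟨k, hk, c, hc, rfl⟩ := hd.dec g
  suffices hkT : k ∈ stab L φ by
    refine ⟨k, ⟨hk, hkT⟩, c, ⟨hc, ?_⟩, rfl⟩
    have := mul_mem (inv_mem hkT) hg
    rwa [inv_mul_cancel_left] at this
  refine hd.mem_stab_of_diff hk fun s => ?_
  have := mul_mem (hd.map_stab s hg) (inv_mem hg)
  rwa [map_mul, hd.fixC s c hc, mul_inv_rev, mul_assoc, mul_inv_cancel_left] at this

end Cfsg.Agent.Char.OddCorr
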